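import Mathlib
import Cfsg.Agent.Comp2.Hsub
import Cfsg.Agent.Core.Fitting

/-! Supersolvability from strongly closed subgroups of a fixed order. -/

set_option autoImplicit false

namespace Cfsg.Agent.Comp2.Hsub

open Subgroup Cfsg
open scoped commutatorElement Pointwise

universe u

variable {G : Type*} [Group G] {p k : ℕ}

theorem ss_quot_map (N Q : Subgroup G) [N.Normal] [Q.Normal] (h : IsSupersolvable (G ⧸ Q)) :
    IsSupersolvable ((G ⧸ N) ⧸ Q.map (QuotientGroup.mk' N)) := by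
  refine FGS.supersolvable_of_surjective
    (f := QuotientGroup.map Q (Q.map (QuotientGroup.mk' N)) (QuotientGroup.mk' N)
      (le_comap_map _ _)) ?_ h
  intro x
  obtain ⟨x, rfl⟩ := QuotientGroup.mk_surjective x
  obtain ⟨x, rfl⟩ := QuotientGroup.mk_surjective x
  exact ⟨x, rfl⟩

theorem card_quot_lt [Finite G] (N : Subgroup G) [N.Normal] (hN : N ≠ ⊥) :
    Nat.card (G ⧸ N) < Nat.card G := by
  rw [← N.card_mul_index, index_eq_card]
  exact lt_mul_of_one_lt_left Nat.card_pos (one_lt_card_iff_ne_bot N |>.mpr hN)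

theorem ss_of_bot {Q : Subgroup G} [Q.Normal] (hQ : Q = ⊥) (h : IsSupersolvable (G ⧸ Q)) :
    IsSupersolvable G :=
  Core.isSupersolvable_of_quotient Q (by rw [hQ]; infer_instance) h

theorem inf_cent_ne_bot [Finite G] [hp : Fact p.Prime] {N A : Subgroup G} [N.Normal]
    (hN : IsPGroup p N) (hN1 : N ≠ ⊥) (hA : ∀ a ∈ A, ∃ m, a ^ p ^ m ∈ centralizer (N : Set G)) :
    N ⊓ centralizer (A : Set G) ≠ ⊥ := by
  let B : Subgroup (MulAut N) := A.map MulAut.conjNormal
  have hB : IsPGroup p B := by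
    rintro ⟨_, a, ha, rfl⟩
    obtain ⟨m, hm⟩ := hA a ha
    refine ⟨m, Subtype.ext ?_⟩
    change (MulAut.conjNormal a : MulAut N) ^ p ^ m = 1
    rw [← map_pow]
    ext x
    simp only [MulAut.conjNormal_apply, MulAut.one_apply]
    rw [← hm x x.2]; group
  obtain ⟨y, hy1, hy2⟩ := hB.exists_fixed_point_of_prime_dvd_card_of_fixed_point N
    (Core.prime_dvd_card_of_isPGroup hN hN1) (a := 1) (fun b => smul_one b)
  intro e
  have h1 : (y : G) ∈ N ⊓ centralizer (A : Set G) := by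
    refine ⟨y.2, fun a ha => ?_⟩
    have h2 := congrArg Subtype.val (hy1 ⟨_, a, ha, rfl⟩)
    change a * y * a⁻¹ = y at h2
    calc a * y = a * y * a⁻¹ * a := by group
      _ = _ := by rw [h2]
  rw [e, mem_bot] at h1
  exact hy2 (Subtype.ext h1.symm)

theorem ss_chain [hp : Fact p.Prime] (G : Type u) [Group G] [Finite G] :
    ∀ (Q A : Subgroup G) [Q.Normal] [A.Normal], IsPGroup p Q → IsSupersolvable (G ⧸ Q) →
      ⁅(⊤ : Subgroup G), (⊤ : Subgroup G)⁆ ≤ A → (∀ g : G, g ^ (p - 1) ∈ A) →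
      (∀ a ∈ A, ∃ m, a ^ p ^ m ∈ centralizer (Q : Set G)) → IsSupersolvable G := by
  refine Core.induction_on_card (P := fun G _ _ => ∀ (Q A : Subgroup G) [Q.Normal] [A.Normal],
    IsPGroup p Q → IsSupersolvable (G ⧸ Q) →
      ⁅(⊤ : Subgroup G), (⊤ : Subgroup G)⁆ ≤ A → (∀ g : G, g ^ (p - 1) ∈ A) →
      (∀ a ∈ A, ∃ m, a ^ p ^ m ∈ centralizer (Q : Set G)) → IsSupersolvable G) ?_ G
  intro G _ _ ih Q A _ _ hQ hss h1 h2 h3
  by_cases hQ1 : Q = ⊥
  · exact ss_of_bot hQ1 hss
  haveI := hQ.isNilpotent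
  obtain ⟨N, r, hNn, hN1, hNQ, hr, hNe, hmin⟩ :=
    Core.exists_minimal_normal_elementary_le Q inferInstance hQ1
  have hrp : r = p := by
    haveI : Fact r.Prime := ⟨hr⟩
    obtain ⟨j, hj⟩ := (hQ.to_le hNQ).exists_card_eq
    have := Core.prime_dvd_card_of_isPGroup (Core.IsElementaryAbelian.isPGroup hNe) hN1
    rw [hj] at this
    exact (Nat.prime_dvd_prime_iff_eq hr hp.out).mp (hr.dvd_of_dvd_pow this)
  subst hrp
  have hAN : A ≤ centralizer (N : Set G) := by
    have h4 := inf_cent_ne_bot (A := A) (hQ.to_le hNQ) hN1 (fun a ha => by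
      obtain ⟨m, hm⟩ := h3 a ha
      exact ⟨m, centralizer_le hNQ hm⟩)
    rcases hmin (N ⊓ centralizer (A : Set G)) inferInstance inf_le_left with e | e
    · exact absurd e h4
    · exact le_centralizer_iff.mp (e.ge.trans inf_le_right)
  obtain ⟨X, hX1, hX2, hX3⟩ := Core.exists_invariant_card_prime (K := ⊤) hNe hN1
    (by rw [normalizer_eq_top]) (h1.trans hAN) (fun g _ => hAN (h2 g))
  haveI : X.Normal := PGrp.normal_iff_top_le_normalizer.mpr hX3
  haveI : IsCyclic X := isCyclic_of_prime_card hX2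
  have hs := QuotientGroup.mk'_surjective X
  haveI : (Q.map (QuotientGroup.mk' X)).Normal := Normal.map inferInstance _ hs
  haveI : (A.map (QuotientGroup.mk' X)).Normal := Normal.map inferInstance _ hs
  refine Core.isSupersolvable_of_quotient X inferInstance (ih (G ⧸ X) (card_quot_lt X (fun e => ?_))
    (Q.map (QuotientGroup.mk' X)) (A.map (QuotientGroup.mk' X)) (hQ.map _) (ss_quot_map X Q hss)
    ?_ ?_ ?_)
  · rw [e, card_bot] at hX2; exact hp.out.one_lt.ne hX2
  · rw [← map_top_of_surjective _ hs, ← map_commutator]; exact map_mono h1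
  · intro g
    obtain ⟨g, rfl⟩ := hs g
    rw [← map_pow]; exact mem_map_of_mem _ (h2 g)
  · rintro _ ⟨a, ha, rfl⟩
    obtain ⟨m, hm⟩ := h3 a ha
    refine ⟨m, ?_⟩
    rintro _ ⟨y, hy, rfl⟩
    rw [← map_pow, ← map_mul, ← map_mul, hm y hy]

theorem ssZ [hp : Fact p.Prime] (G : Type u) [Group G] [Finite G] :
    ∀ (Q : Subgroup G) [Q.Normal] (k : ℕ), IsPGroup p Q → IsSupersolvable (G ⧸ Q) → Hyp p k Q →
      IsSupersolvable G := by
  refine Core.induction_on_card (P := fun G _ _ => ∀ (Q : Subgroup G) [Q.Normal] (k : ℕ),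
    IsPGroup p Q → IsSupersolvable (G ⧸ Q) → Hyp p k Q → IsSupersolvable G) ?_ G
  intro G _ _ ih Q _ k hQ hss h
  have hp1 := hp.out.one_lt
  have hn : ∀ E : Subgroup G, IsStronglyClosed E Q → E.Normal := fun E hE => by
    have := sc_normal (N := Q) hE le_rfl
    rwa [inf_eq_left.mpr hE.1] at this
  by_cases hk : k = 1 ∨ p ^ k = 4
  · refine ss_chain G Q (Core.powComm (p - 1) G) hQ hss (Core.commutator_le_powComm _ _ _)
      (Core.pow_mem_powComm _) (fun a ha => ?_)
    obtain ⟨m, hm⟩ := Transfer.exists_pow_coprime_order (p := p) (orderOf_pos a).ne'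
    refine ⟨m, h.small hQ hk le_rfl (by rw [normalizer_eq_top]; trivial) hm
      (fun C hC hCQ hCn => ?_)⟩
    rcases hk with hk | hk
    · haveI := hn C (h.sc C hCQ (Or.inl (by rw [hC, hk, pow_one])))
      exact Core.powComm_le_centralizer hp.out C hC (pow_mem ha _)
    · have hp2 : p = 2 := by
        have : p ∣ 2 ^ 2 := by
          rw [show 2 ^ 2 = 4 from rfl, ← hk]; exact dvd_pow_self p h.pos.ne'
        exact (Nat.prime_dvd_prime_iff_eq hp.out Nat.prime_two).mp (hp.out.dvd_of_dvd_pow this)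
      haveI : IsCyclic C := isCyclic_of_prime_card hC
      exact cent_of_cyclic (hQ.to_le hCQ) hCn hm (by rw [hp2]; simp)
  push Not at hk
  obtain ⟨n, hn'⟩ := hQ.exists_card_eq
  obtain ⟨H, hHQ, hHc⟩ := BG.Rank.exists_le_card_pow (p := p) (n := k) (H := Q) (by
    have := h.lt
    rw [hn'] at this ⊢
    exact pow_dvd_pow _ ((Nat.pow_lt_pow_iff_right hp1).mp this).le)
  haveI := hn H (h.sc H hHQ (Or.inl hHc))
  have hH1 : H ≠ ⊥ := by
    intro e; rw [e, card_bot] at hHc
    exact (Nat.one_lt_pow h.pos.ne' hp1).ne hHc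
  obtain ⟨N, hNn, hN1, hNH, hNmin⟩ := Core.exists_minimal_normal_le H hH1
  have hNS := hNH.trans hHQ
  obtain ⟨j, hj⟩ := (hQ.to_le hNS).exists_card_eq
  have hcases := h.min hQ hNS (hHc ▸ card_le_of_le hNH) hN1 hNmin
  have hjk : j < k := by
    rcases hcases with e | ⟨-, e, -⟩
    · rw [hj] at e
      have : j = 1 := Nat.pow_right_injective hp.out.two_le (by simpa using e)
      have := h.pos
      omega
    · rw [hj] at e; exact (Nat.pow_lt_pow_iff_right hp1).mp e
  have hq := h.quot hQ hNS hj hjk (fun E F hE hF => by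
    haveI := hn E hE
    haveI := hn F hF
    exact ⟨sup_le hE.1 hF.1, fun x hx g _ => Normal.conj_mem inferInstance x hx g⟩) (by
    intro e
    rcases hcases with e1 | ⟨e1, -⟩
    · exfalso
      apply hk.2
      have hp2 : p = 2 := by
        have : p ∣ 2 := e ▸ dvd_pow_self p (by omega)
        exact (Nat.prime_dvd_prime_iff_eq hp.out Nat.prime_two).mp this
      have hk' : p ^ k = p ^ j * p ^ (k - j) := by rw [← pow_add]; congr 1; omega
      rw [hk', ← hj, e1, e, hp2]
    · exact e1)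
  haveI : (Q.map (QuotientGroup.mk' N)).Normal :=
    Normal.map inferInstance _ (QuotientGroup.mk'_surjective N)
  have hG := ih (G ⧸ N) (card_quot_lt N hN1) _ _ (hQ.map _) (ss_quot_map N Q hss) hq
  rcases hcases with e | ⟨-, -, e⟩
  · exact Core.isSupersolvable_of_quotient N (isCyclic_of_prime_card e) hG
  · exact Core.isSupersolvable_of_quotient_frattini N (e.trans (Core.map_frattini_subtype_le Q)) hG

/-- The hypothesis on all noncyclic Sylow subgroups of `E`. -/
def All (E : Subgroup G) : Prop :=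
  ∀ p : ℕ, p.Prime → ∀ P : Subgroup G, Core.IsSylowOf p P E → ¬ IsCyclic P → ∃ k, Hyp p k P

theorem tower [Finite G] (n : ℕ) : ∀ (E : Subgroup G) [E.Normal], Nat.card E = n → E ≠ ⊥ → All E →
    ∃ (q : ℕ) (Q : Subgroup G), q.Prime ∧ Core.IsSylowOf q Q E ∧ Q ≠ ⊥ ∧ Q.Normal := by
  induction n using Nat.strong_induction_on with
  | _ n ih =>
  intro E _ hn hE1 hE
  have hc1 : Nat.card E ≠ 1 := fun e => hE1 (card_eq_one.mp e)
  set p := (Nat.card E).minFac with hpdef
  haveI hp : Fact p.Prime := ⟨Nat.minFac_prime hc1⟩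
  have hmin : ∀ q : ℕ, q.Prime → q ∣ Nat.card E → p ≤ q :=
    fun q hq hd => Nat.minFac_le_of_dvd hq.two_le hd
  have hnp : HasNormalPComplement p E := by
    obtain ⟨P, hP⟩ := Core.exists_isSylowOf p E
    have hP' : Core.IsSylowOf p (P.subgroupOf E) ⊤ := by simpa using hP.subgroupOf le_rfl
    by_cases hc : IsCyclic P
    · obtain ⟨S, hS⟩ := hP'.exists_sylow_top
      refine Transfer.hasNormalPComplement_of_forall_le_sylow' S (fun Q hQ _ a ha hc' => ?_)
      haveI : IsCyclic S := by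
        rw [hS]; exact (subgroupOfEquivOfLe hP.le).isCyclic.mpr hc
      haveI : IsCyclic Q := Subgroup.isCyclic_of_le hQ
      exact cent_of_cyclic (S.isPGroup'.to_le hQ) ha hc' (coprime_pred hmin a)
    · obtain ⟨k, hk⟩ := hE p hp.out P hP hc
      exact pnil E hmin _ k hP' (hk.comap _ (subtype_injective _) (by rw [range_subtype]; exact hP.le))
  set K := (pResidual p E).map E.subtype with hK
  haveI : K.Normal := ConjAct.normal_of_characteristic_of_normal
  have hKc : ¬ p ∣ Nat.card K := by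
    rw [hK, card_subtype]; exact Transfer.hasNormalPComplement_iff_not_dvd.mp hnp
  have hKE : K ≤ E := map_subtype_le _
  obtain ⟨m, hm⟩ := Transfer.exists_index_pResidual_eq_pow (p := p) (G := E)
  have hri : K.relIndex E = p ^ m := by
    rw [relIndex, hK, subgroupOf, comap_map_eq_self_of_injective E.subtype_injective, hm]
  by_cases hK1 : K = ⊥
  · refine ⟨p, E, hp.out, Core.isSylowOf_self ?_, hE1, inferInstance⟩
    rw [hK1, relIndex_bot_left] at hri
    exact IsPGroup.of_card hri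
  have hsyl : ∀ q : ℕ, q.Prime → ∀ P : Subgroup G, Core.IsSylowOf q P K → P ≠ ⊥ →
      Core.IsSylowOf q P E := by
    intro q hq P hP hP1
    haveI : Fact q.Prime := ⟨hq⟩
    refine hP.trans hKE (fun hd => hKc ?_)
    rw [hri] at hd
    rw [← (Nat.prime_dvd_prime_iff_eq hq hp.out).mp (hq.dvd_of_dvd_pow hd)]
    exact (Core.prime_dvd_card_of_isPGroup hP.isPGroup hP1).trans (card_dvd_of_le hP.le)
  have hlt : Nat.card K < n := by
    rw [← hn]
    refine PGrp.card_lt_of_lt (lt_of_le_of_ne hKE (fun e => hKc ?_))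
    rw [e]; exact Nat.minFac_dvd _
  obtain ⟨q, Q, hq, h1, h2, h3⟩ := ih _ hlt K rfl hK1 (fun q hq P hP hc =>
    hE q hq P (hsyl q hq P hP (fun e => hc (by rw [e]; infer_instance))) hc)
  exact ⟨q, Q, hq, hsyl q hq Q h1 h2, h2, h3⟩

theorem Hyp.quot_coprime [Finite G] [hp : Fact p.Prime] {P Q : Subgroup G} [Q.Normal]
    (hP : IsPGroup p P) (hQ : ¬ p ∣ Nat.card Q) (h : Hyp p k P) :
    Hyp p k (P.map (QuotientGroup.mk' Q)) := by
  have hinj : ∀ E : Subgroup G, E ≤ P →
      Nat.card (E.map (QuotientGroup.mk' Q)) = Nat.card E := by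
    intro E hE
    have h1 : E ⊓ Q = ⊥ := Transfer.inf_eq_bot_of_not_dvd (hP.to_le hE) hQ
    rw [← relIndex_ker, QuotientGroup.ker_mk', ← inf_relIndex_right, inf_comm, h1,
      relIndex_bot_left]
  refine ⟨h.pos, by rw [hinj P le_rfl]; exact h.lt, fun E hE hc => ?_⟩
  have hm : (P ⊓ E.comap (QuotientGroup.mk' Q)).map (QuotientGroup.mk' Q) = E := by
    refine le_antisymm ((map_mono inf_le_right).trans (map_comap_le _ _)) (fun x hx => ?_)
    obtain ⟨y, hy, rfl⟩ := hE hx
    exact mem_map_of_mem _ ⟨hy, hx⟩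
  set F := P ⊓ E.comap (QuotientGroup.mk' Q) with hF
  have hsc := h.sc F inf_le_left (by rwa [← hinj F inf_le_left, hm])
  have hsyl : Core.IsSylowOf p P (Q ⊔ P) := by
    refine ⟨le_sup_right, hP, fun hd => hQ (hd.trans ?_)⟩
    have h1 := PGrp.card_sup_mul_card_inf (N := Q) (H := P)
      (by rw [normalizer_eq_top]; exact le_top)
    rw [inf_comm, Transfer.inf_eq_bot_of_not_dvd hP hQ, card_bot, mul_one,
      PGrp.card_eq_card_mul_relIndex (le_sup_right : P ≤ Q ⊔ P), mul_comm] at h1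
    exact (Nat.eq_of_mul_eq_mul_right Nat.card_pos h1).dvd
  refine ⟨hE, fun x hx g hg => ?_⟩
  rw [← hm] at hx
  obtain ⟨x, hx, rfl⟩ := hx
  obtain ⟨g, rfl⟩ := QuotientGroup.mk'_surjective Q g
  rw [← map_inv, ← map_mul, ← map_mul] at hg ⊢
  have h1 : g * x * g⁻¹ ∈ Q ⊔ P := by
    have := mem_comap.mpr hg
    rwa [comap_map_eq, QuotientGroup.ker_mk', sup_comm] at this
  have h2 : IsPGroup p (zpowers (g * x * g⁻¹)) := by
    obtain ⟨m, hm⟩ := hP ⟨x, hx.1⟩
    refine Fusion.isPGroup_zpowers (k := m) ?_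
    rw [conj_pow, show x ^ p ^ m = 1 from congrArg Subtype.val hm]; simp
  obtain ⟨u, hu, h3⟩ := hsyl.exists_conj_le h2 (zpowers_le.mpr h1)
  have h4 : u * g * x * (u * g)⁻¹ ∈ P := by
    have := h3 (smul_mem_pointwise_smul _ _ _ (mem_zpowers _))
    simpa [mul_assoc] using this
  have h5 := hsc.2 x hx (u * g) h4
  obtain ⟨y, hy, z, hz, rfl⟩ := (PGrp.mem_sup_of_le_normalizer
    (by rw [normalizer_eq_top]; exact le_top)).mp hu
  have h6 := PGrp.conj_mem_of_mem_normalizer' (sc_le_normalizer hsc hz) h5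
  have h7 : QuotientGroup.mk' Q y = 1 := (QuotientGroup.eq_one_iff y).mpr hy
  have h8 : QuotientGroup.mk' Q (z⁻¹ * (y * z * g * x * (y * z * g)⁻¹) * z) ∈ E := h6.2
  have h9 : QuotientGroup.mk' Q (z⁻¹ * (y * z * g * x * (y * z * g)⁻¹) * z) =
      QuotientGroup.mk' Q (g * x * g⁻¹) := by
    simp only [map_mul, map_inv, h7]; group
  rwa [h9] at h8

theorem ss_main (G : Type u) [Group G] [Finite G] :
    ∀ (E : Subgroup G) [E.Normal], IsSupersolvable (G ⧸ E) → All E → IsSupersolvable G := by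
  refine Core.induction_on_card (P := fun G _ _ => ∀ (E : Subgroup G) [E.Normal],
    IsSupersolvable (G ⧸ E) → All E → IsSupersolvable G) ?_ G
  intro G _ _ ih E _ hss hE
  by_cases hE1 : E = ⊥
  · exact ss_of_bot hE1 hss
  obtain ⟨q, Q, hq, hQ, hQ1, hQn⟩ := tower _ E rfl hE1 hE
  haveI : Fact q.Prime := ⟨hq⟩
  have hs := QuotientGroup.mk'_surjective Q
  haveI : (E.map (QuotientGroup.mk' Q)).Normal := Normal.map inferInstance _ hs
  have hG : IsSupersolvable (G ⧸ Q) := by
    refine ih (G ⧸ Q) (card_quot_lt Q hQ1) (E.map (QuotientGroup.mk' Q)) (ss_quot_map Q E hss)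
      (fun r hr P hP hc => ?_)
    haveI : Fact r.Prime := ⟨hr⟩
    obtain ⟨R, hR⟩ := Core.exists_isSylowOf r E
    obtain ⟨_, ⟨e, he, rfl⟩, h1⟩ := (hR.map (QuotientGroup.mk' Q)).exists_conj_eq hP
    have hR' := hR.conj_of_mem_normalizer (le_normalizer he)
    have h2 : (MulAut.conj e • R).map (QuotientGroup.mk' Q) = P := by
      rw [← h1]
      ext x
      simp only [mem_map, mem_smul_pointwise_iff_exists, MulAut.smul_def, MulAut.conj_apply]
      constructor
      · rintro ⟨_, ⟨y, hy, rfl⟩, rfl⟩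
        exact ⟨_, ⟨y, hy, rfl⟩, by simp⟩
      · rintro ⟨_, ⟨y, hy, rfl⟩, rfl⟩
        exact ⟨_, ⟨y, hy, rfl⟩, by simp⟩
    generalize MulAut.conj e • R = T at hR' h2
    subst h2
    have hc' : ¬ IsCyclic T := fun h => hc (isCyclic_of_surjective _
      ((QuotientGroup.mk' Q).subgroupMap_surjective T))
    have hrq : r ≠ q := by
      rintro rfl
      apply hc
      rw [← hQ.eq_of_normal hR' (by rw [normalizer_eq_top]; exact le_top),
        (QuotientGroup.map_mk'_self Q)]
      infer_instance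
    obtain ⟨k, hk⟩ := hE r hr T hR' hc'
    refine ⟨k, hk.quot_coprime hR'.isPGroup (fun hd => hrq ?_)⟩
    obtain ⟨m, hm⟩ := hQ.isPGroup.exists_card_eq
    rw [hm] at hd
    exact (Nat.prime_dvd_prime_iff_eq hr hq).mp (hr.dvd_of_dvd_pow hd)
  by_cases hc : IsCyclic Q
  · exact Core.isSupersolvable_of_quotient Q hc hG
  · obtain ⟨k, hk⟩ := hE q hq Q hQ hc
    exact ssZ G Q k hQ.isPGroup hG hk

end Cfsg.Agent.Comp2.Hsub
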