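import Mathlib
import Cfsg.Agent.Comp2.PGV1
import Cfsg.Agent.Inv.NFour

/-! Quadratic action on modules and components, part two: characteristic two. -/

namespace Cfsg.Agent.Comp2

open Cfsg Subgroup Cfsg.Agent.BG
open scoped Pointwise commutatorElement

theorem mem_cent_of_diag {G : Type*} [Group G] {K : Subgroup G} (hK : ⁅K, K⁆ = K) {c : G}
    (hc : c * c = 1) (h : ∀ k ∈ K, k * (c * k * c⁻¹)⁻¹ ∈ 𝐂(K)) : c ∈ 𝐂(K) := by
  have h1 : ⁅zpowers c, K⁆ ≤ 𝐂(K) := commutator_le.2 fun x hx k hk => by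
    rcases Inv.one_or_eq_of_mem_zpowers hc hx with rfl | rfl
    · simp
    · simpa [commutatorElement_def, mul_assoc] using inv_mem (h k hk)
  exact Amb.le_cent_iff_comm_eq_bot.2 (commutator_eq_bot_of_perfect hK
    (Amb.le_cent_iff_comm_eq_bot.1 h1)) (mem_zpowers c)

theorem eq_of_card_le_two {Y : Type*} [Finite Y] (h : Nat.card Y ≤ 2) {x y z : Y} (h1 : x ≠ z)
    (h2 : y ≠ z) : x = y := by
  by_contra h3
  haveI := Fintype.ofFinite Y
  have : 2 < Fintype.card Y := Fintype.two_lt_card_iff.2 ⟨x, y, z, h3, h1, h2⟩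
  rw [Nat.card_eq_fintype_card] at h
  omega

variable {H X : Type*} [Group H] [AddCommGroup X] [Module (ZMod 2) X]
  {ρ : Representation (ZMod 2) H X} {K A B : Subgroup H}

namespace PGV

theorem sq (s : PGV ρ K A B) {a : H} (ha : a ∈ A) : a * a = 1 := by
  rw [← pow_two]; exact s.elem.2 a ha

theorem inv_eq (s : PGV ρ K A B) {a : H} (ha : a ∈ A) : a⁻¹ = a :=
  inv_eq_of_mul_eq_one_right (s.sq ha)

theorem al_mul (s : PGV ρ K A B) {a : H} (ha : a ∈ A) : (ρ a - 1) * ρ a = ρ a - 1 := by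
  haveI := s.charP
  rw [sub_mul, ← map_mul, s.sq ha, map_one, one_mul, CharTwo.sub_eq_add, CharTwo.sub_eq_add, add_comm]

theorem mul_al (s : PGV ρ K A B) {a : H} (ha : a ∈ A) : ρ a * (ρ a - 1) = ρ a - 1 := by
  haveI := s.charP
  rw [mul_sub, ← map_mul, s.sq ha, map_one, mul_one, CharTwo.sub_eq_add, CharTwo.sub_eq_add, add_comm]

theorem card_range_le [Finite H] [Finite X] (s : PGV ρ K A B) {b : H} (hb : b ∈ B) :
    Nat.card (LinearMap.range (ρ b - 1)) ≤ Nat.card B := by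
  have h1 := Submodule.card_eq_card_quotient_mul_card (LinearMap.ker (ρ b - 1))
  rw [Nat.card_congr (LinearMap.quotKerEquivRange (ρ b - 1)).toEquiv] at h1
  have h2 : Nat.card {v : X // ∀ b ∈ B, ρ b v = v} ≤ Nat.card (LinearMap.ker (ρ b - 1)) :=
    Nat.card_le_card_of_injective (fun v => ⟨v.1, by simp [v.2 b hb]⟩) fun v w h =>
      Subtype.ext (by simpa using h)
  have h3 := s.card.trans (Nat.mul_le_mul_left _ h2)
  rw [h1, mul_comm] at h3
  exact Nat.le_of_mul_le_mul_right h3 Nat.card_pos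

theorem card_le_two [Finite H] {a : H} (h : ∀ b ∈ B, b = 1 ∨ b = a) : Nat.card B ≤ 2 := by
  have h1 : (B : Set H) ⊆ {1, a} := fun b hb => h b hb
  exact (Set.ncard_le_ncard h1 (Set.toFinite _)).trans (Set.ncard_insert_le _ _) |>.trans (by simp)

theorem diag_comm (s : PGV ρ K A B) {a x : H} (ha : a ∈ A) (h : Commute x (a * x * a⁻¹)) :
    Commute (x * (a * x * a⁻¹)) a := by
  change _ = _
  conv_rhs => rw [h.eq]
  rw [s.inv_eq ha]
  calc x * (a * x * a) * a = x * a * x * (a * a) := by group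
    _ = (a * a) * x * a * x := by rw [s.sq ha]; group
    _ = _ := by group

theorem diag_of (s : PGV ρ K A B) {a c : H} (ha : a ∈ A) (hn : a ∉ 𝐍(K)) (hc : c ∈ A) (hc1 : c ≠ 1)
    (hca : c ≠ a) (h : ρ c * (ρ a - 1) = ρ a - 1) {k : H} (hk : k ∈ K) :
    ρ (k * (a * k * a⁻¹)) * (ρ a - 1) = ρ a - 1 := by
  let N : Subgroup H :=
    { carrier := {g | ρ g * (ρ a - 1) = ρ a - 1}
      mul_mem' := fun {x y} hx hy => by
        change ρ (x * y) * _ = _
        rw [map_mul, mul_assoc, hy, hx]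
      one_mem' := by change ρ 1 * _ = _; rw [map_one, one_mul]
      inv_mem' := fun {x} hx => by
        change ρ x⁻¹ * _ = _
        conv_lhs => rw [← hx]
        rw [← mul_assoc, ← map_mul, inv_mul_cancel, map_one, one_mul] }
  have hcm : ∀ k ∈ K, ∀ l ∈ K, Commute (a * k * a⁻¹) l := fun k hk l hl =>
    s.comm_conj' hn (Amb.conj_mem_conj.2 hk) hl
  let δ : K →* H :=
    { toFun := fun k => k * (a * k * a⁻¹)
      map_one' := by simp
      map_mul' := fun x y => by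
        simp only [coe_mul]
        calc (x : H) * y * (a * (x * y) * a⁻¹) = x * (y * (a * x * a⁻¹)) * (a * y * a⁻¹) := by group
          _ = _ := by rw [← (hcm x x.2 y y.2).eq]; group }
  have hδ : ∀ k : K, Commute (δ k) a := fun k => s.diag_comm ha (hcm k k.2 k k.2).symm
  have hN : ∀ k : K, ∀ x ∈ N, δ k * x * (δ k)⁻¹ ∈ N := fun k x hx => by
    have h1 : Commute (ρ (δ k)⁻¹) (ρ a - 1) :=
      ((hδ k).inv_left.map ρ).sub_right (Commute.one_right _)
    change ρ (_ * _ * _) * _ = _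
    rw [map_mul, map_mul, mul_assoc, h1.eq, mul_assoc, ← mul_assoc (ρ x), hx, ← h1.eq, ← mul_assoc,
      ← map_mul, mul_inv_cancel, map_one, one_mul]
  haveI : (N.comap δ).Normal := ⟨fun x hx k => by
    rw [mem_comap, map_mul, map_mul, map_inv]; exact hN k _ hx⟩
  suffices h1 : N.comap δ = ⊤ from (h1 ▸ mem_top _ : (⟨k, hk⟩ : K) ∈ N.comap δ)
  have key : ∀ d ∈ A, d ∈ N → d ∈ 𝐍(K) → d ≠ 1 → N.comap δ = ⊤ := fun d hd hdN hdK hd1 => by
    refine (quasisimple_normal_top_or_central s.comp.2 _).resolve_right fun h1 => hd1 ?_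
    refine s.cent_triv hd (mem_cent_of_diag (component_commutator_self s.comp) (s.sq hd)
      fun k hk l hl => ?_)
    have h2 : (⟨k, hk⟩ * (⟨d * k * d⁻¹, (mem_normalizer_iff.1 hdK k).1 hk⟩ : K)⁻¹) ∈ N.comap δ := by
      rw [mem_comap, map_mul, map_inv]
      have h3 : δ ⟨d * k * d⁻¹, (mem_normalizer_iff.1 hdK k).1 hk⟩ = d * δ ⟨k, hk⟩ * d⁻¹ := by
        change d * k * d⁻¹ * (a * (d * k * d⁻¹) * a⁻¹) = d * (k * (a * k * a⁻¹)) * d⁻¹
        calc _ = d * k * d⁻¹ * (a * d) * k * (a * d)⁻¹ := by group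
          _ = _ := by rw [elem_comm s.elem ha hd]; group
      have h4 := N.mul_mem (hN ⟨k, hk⟩ d hdN) (N.inv_mem hdN)
      rw [h3]
      convert h4 using 1
      rw [s.inv_eq hd, mul_inv_rev, mul_inv_rev, s.inv_eq hd]; group
    exact congrArg Subtype.val (mem_center_iff.1 (h1 h2) ⟨l, hl⟩)
  by_cases h1 : c ∈ 𝐍(K)
  · exact key c hc h h1 hc1
  by_cases h2 : c * a ∈ 𝐍(K)
  · exact key _ (A.mul_mem hc ha) (N.mul_mem h (s.mul_al ha)) h2 fun h3 =>
      hca (by rw [eq_inv_of_mul_eq_one_left h3, s.inv_eq ha])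
  rw [eq_top_iff, ← (quasisimple_isPerfect s.comp.2).commutator_eq_top, commutator_def,
    commutator_le]
  intro l _ k _
  have h3 : ∀ m ∈ K, Commute (c * δ k * c⁻¹) m := fun m hm => by
    have h4 : c * δ k * c⁻¹ = (c * k * c⁻¹) * ((c * a) * k * (c * a)⁻¹) := by
      change c * (k * (a * k * a⁻¹)) * c⁻¹ = _; group
    rw [h4]
    exact (s.comm_conj' h1 (Amb.conj_mem_conj.2 k.2) hm).mul_left
      (s.comm_conj' h2 (Amb.conj_mem_conj.2 k.2) hm)
  have h4 : Commute (c * δ k * c⁻¹) a :=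
    ((show Commute c a from elem_comm s.elem hc ha).mul_left (hδ k)).mul_left
      (show Commute c a from elem_comm s.elem hc ha).inv_left
  have h5 : Commute (c * δ k * c⁻¹) (δ l) :=
    (h3 l l.2).mul_right ((h4.mul_right (h3 l l.2)).mul_right h4.inv_right)
  have h6 := N.mul_mem (hN k c h) (N.inv_mem h)
  have h7 := N.mul_mem (hN l _ h6) (N.inv_mem h6)
  rw [mem_comap, map_commutatorElement, commutatorElement_def]
  convert h7 using 1
  have h8 : δ k * c * (δ k)⁻¹ * c⁻¹ = δ k * (c * δ k * c⁻¹)⁻¹ := by group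
  rw [h8]
  generalize c * δ k * c⁻¹ = y at h5
  calc _ = δ l * δ k * ((δ l)⁻¹ * y⁻¹) * y * (δ k)⁻¹ := by group
    _ = _ := by rw [← h5.inv_inv.eq]; group

theorem diag [Finite H] [Finite X] (s : PGV ρ K A B) {a : H} (ha : a ∈ A) (hn : a ∉ 𝐍(K)) {k : H}
    (hk : k ∈ K) : ρ (k * (a * k * a⁻¹)) * (ρ a - 1) = ρ a - 1 := by
  by_cases h : ∀ b ∈ B, b = 1 ∨ b = a
  · obtain ⟨b, hb, hb1⟩ := exists_mem_ne_one s.ne
    obtain rfl := (h b hb).resolve_left hb1
    have h1 := (s.card_range_le hb).trans (card_le_two h)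
    have h2 : Commute (ρ (k * (b * k * b⁻¹))) (ρ b - 1) := ((s.diag_comm ha
      (s.comm_conj' hn (Amb.conj_mem_conj.2 hk) hk).symm).map ρ).sub_right (Commute.one_right _)
    ext v
    by_cases hv : (ρ b - 1) v = 0
    · rw [Module.End.mul_apply, hv, map_zero]
    refine congrArg Subtype.val (eq_of_card_le_two h1 (x := ⟨_, ρ (k * (b * k * b⁻¹)) v, by
      rw [← Module.End.mul_apply, ← h2.eq]⟩) (y := ⟨_, v, rfl⟩) (z := 0) (fun h3 => hv ?_)
      fun h3 => hv (congrArg Subtype.val h3))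
    have h4 := congrArg (ρ (k * (b * k * b⁻¹))⁻¹) (congrArg Subtype.val h3)
    rwa [← Module.End.mul_apply, ← mul_assoc, ← map_mul, inv_mul_cancel, map_one, one_mul,
      Submodule.coe_zero, map_zero] at h4
  · push Not at h
    obtain ⟨b, hb, hb1, hba⟩ := h
    refine s.diag_of ha hn (s.le hb) hb1 hba ?_ hk
    have := s.quad b hb a ha
    rwa [sub_mul, one_mul, sub_eq_zero] at this

theorem al_left (s : PGV ρ K A B) {a x : H} (ha : a ∈ A) (hc : Commute x (a * x * a⁻¹))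
    (h : ρ (x * (a * x * a⁻¹)) * (ρ a - 1) = ρ a - 1) :
    (ρ a - 1) * ρ x * ρ a = (ρ a - 1) * ρ x⁻¹ := by
  rw [(((s.diag_comm ha hc).map ρ).sub_right (Commute.one_right _)).eq] at h
  have h1 : x * a = x * (a * x * a⁻¹) * (a * x⁻¹) := by group
  rw [mul_assoc, ← map_mul, h1, map_mul, ← mul_assoc, h, map_mul, ← mul_assoc, s.al_mul ha]

theorem al_right (s : PGV ρ K A B) {a x : H} (ha : a ∈ A) (hc : Commute x (a * x * a⁻¹))
    (h : ρ (x * (a * x * a⁻¹)) * (ρ a - 1) = ρ a - 1) :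
    ρ a * ρ x * (ρ a - 1) = ρ x⁻¹ * (ρ a - 1) := by
  have h1 : a * x = x⁻¹ * a * (x * (a * x * a⁻¹)) := by
    rw [hc.eq, s.inv_eq ha]
    calc a * x = x⁻¹ * (a * a) * x * a * x := by rw [s.sq ha]; group
      _ = _ := by group
  rw [← map_mul, h1, map_mul, mul_assoc, h, map_mul, mul_assoc, s.mul_al ha]

theorem al_al (s : PGV ρ K A B) {a x : H} (ha : a ∈ A) (hc : Commute x (a * x * a⁻¹))
    (h : ρ (x * (a * x * a⁻¹)) * (ρ a - 1) = ρ a - 1) :
    (ρ a - 1) * ρ x * (ρ a - 1) = (ρ x + ρ x⁻¹) * (ρ a - 1) := by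
  haveI := s.charP
  rw [sub_mul, sub_mul, s.al_right ha hc h, one_mul, CharTwo.sub_eq_add, add_mul, add_comm]

theorem tau_al (s : PGV ρ K A B) {a x : H} (ha : a ∈ A) (hc : Commute x (a * x * a⁻¹))
    (h : ρ (x * (a * x * a⁻¹)) * (ρ a - 1) = ρ a - 1) : Commute (ρ x + ρ x⁻¹) (ρ a) := by
  haveI := s.charP
  have h1 : Commute (ρ x + ρ x⁻¹) (ρ a - 1) := by
    change _ = _
    rw [← s.al_al ha hc h, mul_sub, s.al_left ha hc h, mul_one, CharTwo.sub_eq_add, mul_add, add_comm]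
  simpa using h1.add_right (Commute.one_right _)

theorem tau_conj {a x : H} (h : Commute (ρ x + ρ x⁻¹) (ρ a)) :
    ρ (a * x * a⁻¹) + ρ (a * x * a⁻¹)⁻¹ = ρ x + ρ x⁻¹ := by
  have h1 : (a * x * a⁻¹)⁻¹ = a * x⁻¹ * a⁻¹ := by group
  rw [h1, map_mul, map_mul, map_mul, map_mul, ← add_mul, ← mul_add, ← h.eq, mul_assoc, ← map_mul,
    mul_inv_cancel, map_one, mul_one]

variable [Finite H] [Finite X]

theorem tau_A (s : PGV ρ K A B) {a : H} (ha : a ∈ A) (hn : a ∉ 𝐍(K)) {k : H} (hk : k ∈ K) {c : H}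
    (hc : c ∈ A) : Commute (ρ k + ρ k⁻¹) (ρ c) := by
  have key : ∀ a ∈ A, a ∉ 𝐍(K) → Commute (ρ k + ρ k⁻¹) (ρ a) := fun a ha hn =>
    s.tau_al ha (s.comm_conj' hn (Amb.conj_mem_conj.2 hk) hk).symm (s.diag ha hn hk)
  by_cases h : c ∈ 𝐍(K)
  · rw [← mul_inv_cancel_left a c, map_mul]
    exact (key a ha hn).mul_right (key _ (A.mul_mem (A.inv_mem ha) hc) fun h1 =>
      hn (inv_mem_iff.1 ((mul_mem_cancel_right h).1 h1)))
  · exact key c hc h

theorem tau_K (s : PGV ρ K A B) {a : H} (ha : a ∈ A) (hn : a ∉ 𝐍(K)) {k : H} (hk : k ∈ K) {l : H}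
    (hl : l ∈ K) : Commute (ρ k + ρ k⁻¹) (ρ l) := by
  rw [← tau_conj (s.tau_A ha hn hk ha)]
  have h := s.comm_conj' hn (Amb.conj_mem_conj.2 hk) hl
  exact (h.map ρ).add_left (h.inv_left.map ρ)

theorem mul_mem_norm (s : PGV ρ K A B) {a c : H} (ha : a ∈ A) (hn : a ∉ 𝐍(K)) (hc : c ∈ A)
    (hcn : c ∉ 𝐍(K)) : a * c ∈ 𝐍(K) := by
  by_contra hac
  haveI := s.charP
  obtain ⟨k, hk, hkc⟩ := SetLike.not_le_iff_exists.1 (quasisimple_not_le_centralizer s.comp.2)
  refine not_pow_cent s.comp.2 Nat.prime_two Nat.prime_two fun l hl => Or.inl ?_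
  rcases s.schur (fun _ => s.tau_K ha hn hl) (fun _ => s.tau_A ha hn hl) with h | h
  · have h1 : l = l⁻¹ := s.inj (by rw [← sub_eq_zero, CharTwo.sub_eq_add, h])
    rw [pow_two]
    nth_rewrite 1 [h1]
    rw [inv_mul_cancel]; exact one_mem _
  refine absurd (fun j hj => s.inj ?_) hkc
  have hac' := elem_comm s.elem ha hc
  have hne : MulAut.conj c • K ≠ MulAut.conj a • K := fun e => hac (by
    rw [Amb.mem_normalizer_iff_conj, ← Amb.conj_conj, e, conj_conj_of_two (s.sq ha)])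
  have hm : a * (c * l * c⁻¹) * a⁻¹ ∈ MulAut.conj (a * c) • K := by
    rw [← Amb.conj_conj]; exact Amb.conj_mem_conj.2 (Amb.conj_mem_conj.2 hl)
  have c1 := s.comm_conj' hn (Amb.conj_mem_conj.2 hk) hk
  have c2 := s.comm_conj' hac hm hk
  have c3 := s.comm_conj hne (Amb.conj_mem_conj.2 hl) (Amb.conj_mem_conj.2 hk)
  have c4 : Commute (c * l * c⁻¹) (a * (c * l * c⁻¹) * a⁻¹) := by
    have h1 := (s.comm_conj' hn (Amb.conj_mem_conj.2 hl) hl).symm.conj c
    convert h1 using 1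
    calc _ = (a * c) * l * (a * c)⁻¹ := by group
      _ = _ := by rw [hac']; group
  have c5 := s.comm_conj' hcn (Amb.conj_mem_conj.2 hl) hk
  have e1 : a * (k * (c * l * c⁻¹)) * a⁻¹ = (a * k * a⁻¹) * (a * (c * l * c⁻¹) * a⁻¹) := by group
  have c6 : Commute (k * (c * l * c⁻¹)) (a * (k * (c * l * c⁻¹)) * a⁻¹) := by
    rw [e1]
    exact (c1.symm.mul_right c2.symm).mul_left (c3.mul_right c4)
  have h1 := s.tau_al ha c6 (by
    have e2 : k * (c * l * c⁻¹) * (a * (k * (c * l * c⁻¹)) * a⁻¹) =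
        k * (a * k * a⁻¹) * (c * (l * (a * l * a⁻¹)) * c⁻¹) := by
      calc _ = k * ((c * l * c⁻¹) * (a * k * a⁻¹)) * ((a * c) * l * (a * c)⁻¹) := by group
        _ = _ := by rw [c3.eq, hac']; group
    have h2 : Commute (ρ c⁻¹) (ρ a - 1) :=
      (s.comm (A.inv_mem hc) ha).sub_right (Commute.one_right _)
    have h3 := s.diag ha hn hl
    have h4 := s.diag ha hn hk
    rw [e2]
    generalize l * (a * l * a⁻¹) = y at h3
    generalize k * (a * k * a⁻¹) = x at h4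
    rw [map_mul, mul_assoc, map_mul, map_mul, mul_assoc, h2.eq, mul_assoc, ← mul_assoc _ (ρ a - 1),
      h3, ← h2.eq, ← mul_assoc (ρ c), ← map_mul, mul_inv_cancel, map_one, one_mul, h4])
  have h2 : Commute (ρ (k * (c * l * c⁻¹)) + ρ (k * (c * l * c⁻¹))⁻¹) (ρ j) := by
    rw [← tau_conj h1]
    have h3 : Commute (a * (k * (c * l * c⁻¹)) * a⁻¹) j := by
      rw [e1]
      exact (s.comm_conj' hn (Amb.conj_mem_conj.2 hk) hj).mul_left (s.comm_conj' hac hm hj)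
    exact (h3.map ρ).add_left (h3.inv_left.map ρ)
  have h3 := tau_conj (s.tau_A ha hn hl hc)
  have h4 : ρ (k * (c * l * c⁻¹)) + ρ (k * (c * l * c⁻¹))⁻¹ =
      (ρ l + ρ l⁻¹) * ρ k + ρ (c * l * c⁻¹)⁻¹ * (ρ k + ρ k⁻¹) := by
    rw [← h3]
    generalize c * l * c⁻¹ = m at c5
    rw [← c5.eq, mul_inv_rev, ← c5.inv_inv.eq, map_mul, map_mul, add_mul, mul_add, add_assoc,
      ← add_assoc (ρ m⁻¹ * ρ k), CharTwo.add_self_eq_zero, zero_add]
  have h5 : Commute (ρ (c * l * c⁻¹)⁻¹ * (ρ k + ρ k⁻¹)) (ρ j) :=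
    ((s.comm_conj' hcn (Amb.conj_mem_conj.2 hl) hj).inv_left.map ρ).mul_left (s.tau_K ha hn hk hj)
  have h6 := h2.sub_left h5
  rw [h4, add_sub_cancel_right] at h6
  have h7 := h6.eq
  rw [← mul_assoc, ← (s.tau_K ha hn hl hj).eq, mul_assoc, mul_assoc] at h7
  rw [map_mul, map_mul]
  ext v
  exact h (LinearMap.congr_fun h7 v).symm

end PGV

end Cfsg.Agent.Comp2
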