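import Mathlib
import Cfsg.Agent.Comp2.PGV2

/-! Quadratic action on modules and components, part three: the count. -/

namespace Cfsg.Agent.Comp2

open Cfsg Subgroup Cfsg.Agent.BG
open scoped Pointwise commutatorElement

section two

variable {H X : Type*} [Group H] [AddCommGroup X] [Module (ZMod 2) X]
  {ρ : Representation (ZMod 2) H X} {K A B : Subgroup H} [Finite H] [Finite X]

/-- Operators commuting with the component and the offender. -/
def InE (ρ : Representation (ZMod 2) H X) (K A : Subgroup H) (e : Module.End (ZMod 2) X) : Prop :=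
  (∀ k ∈ K, Commute e (ρ k)) ∧ ∀ a ∈ A, Commute e (ρ a)

namespace PGV

theorem exists_fixed (s : PGV ρ K A B) {a : H} (ha : a ∈ A) (ha1 : a ≠ 1) :
    ∃ w ∈ LinearMap.range (ρ a - 1), w ≠ 0 ∧ ∀ c ∈ A, ρ c w = w := by
  have h0 : ∃ w ∈ LinearMap.range (ρ a - 1), w ≠ 0 := by
    by_contra h
    push Not at h
    exact ha1 (s.one_of (sub_eq_zero.1 (LinearMap.ext fun v => h _ ⟨v, rfl⟩)))
  obtain ⟨w, ⟨hw, hw0⟩, hmax⟩ := Set.exists_max_image {w | w ∈ LinearMap.range (ρ a - 1) ∧ w ≠ 0}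
    (fun w => Set.ncard {c | c ∈ A ∧ ρ c w = w}) (Set.toFinite _) h0
  refine ⟨w, hw, hw0, fun c hc => ?_⟩
  by_contra hcw
  have h1 : ∀ d ∈ A, Commute (ρ d) (ρ c - 1) := fun d hd =>
    (s.comm hd hc).sub_right (Commute.one_right _)
  have h2 := hmax ((ρ c - 1) w) ⟨by
    obtain ⟨v, rfl⟩ := hw
    exact ⟨(ρ c - 1) v, by
      rw [← Module.End.mul_apply, ((h1 a ha).sub_left (Commute.one_left _)).eq]; rfl⟩,
    fun h => hcw (by simpa [sub_eq_zero] using h)⟩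
  refine absurd h2 (not_le.2 (Set.ncard_lt_ncard ⟨fun d hd => ⟨hd.1, ?_⟩, fun h => hcw (h ⟨hc, ?_⟩).2⟩
    (Set.toFinite _)))
  · rw [← Module.End.mul_apply, (h1 d hd.1).eq, Module.End.mul_apply, hd.2]
  · rw [← Module.End.mul_apply, s.mul_al hc]

theorem irr' (s : PGV ρ K A B) {a : H} (ha : a ∈ A) (hn : a ∉ 𝐍(K)) (U : Submodule (ZMod 2) X)
    (h1 : ∀ k ∈ K, ∀ u ∈ U, ρ k u ∈ U) (h2 : ∀ u ∈ U, ρ a u ∈ U)
    (h3 : ∀ c ∈ A, c ∈ 𝐍(K) → ∀ u ∈ U, ρ c u ∈ U) : U = ⊥ ∨ U = ⊤ := s.irr U h1 fun c hc u hu => by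
  by_cases h : c ∈ 𝐍(K)
  · exact h3 c hc h u hu
  · have h4 : c = a * (a * c) := by rw [← mul_assoc, s.sq ha, one_mul]
    rw [h4, map_mul]
    exact h2 _ (h3 _ (A.mul_mem ha hc) (s.mul_mem_norm ha hn hc h) u hu)

theorem span_top (s : PGV ρ K A B) {a : H} (ha : a ∈ A) (hn : a ∉ 𝐍(K)) {w : X}
    (hw : w ∈ LinearMap.range (ρ a - 1)) (hw0 : w ≠ 0) (hA : ∀ c ∈ A, ρ c w = w) :
    Submodule.span (ZMod 2) {u | ∃ k ∈ K, u = ρ k w} = ⊤ := by
  have key : ∀ g : H, (∀ k ∈ K, ∃ l ∈ K, ρ g (ρ k w) = ρ l w) →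
      ∀ u ∈ Submodule.span (ZMod 2) {u | ∃ k ∈ K, u = ρ k w},
        ρ g u ∈ Submodule.span (ZMod 2) {u | ∃ k ∈ K, u = ρ k w} := fun g hg u hu =>
    (Submodule.span_le (p := Submodule.comap (ρ g)
      (Submodule.span (ZMod 2) {u | ∃ k ∈ K, u = ρ k w}))).2 (by
      rintro _ ⟨k, hk, rfl⟩
      exact Submodule.subset_span (s := {u | ∃ k ∈ K, u = ρ k w}) (hg k hk)) hu
  refine (s.irr' ha hn _ (fun k hk => key k fun l hl => ⟨k * l, K.mul_mem hk hl, by simp⟩)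
    (key a fun k hk => ⟨k⁻¹, K.inv_mem hk, ?_⟩) fun c hc hcK => key c fun k hk =>
      ⟨c * k * c⁻¹, (mem_normalizer_iff.1 hcK k).1 hk, ?_⟩).resolve_left fun h => hw0 ?_
  · obtain ⟨v, rfl⟩ := hw
    exact LinearMap.congr_fun (s.al_right ha (s.comm_conj' hn (Amb.conj_mem_conj.2 hk) hk).symm
      (s.diag ha hn hk)) v
  · rw [map_mul, map_mul, Module.End.mul_apply, Module.End.mul_apply, hA _ (A.inv_mem hc)]
  · rw [← Submodule.mem_bot (ZMod 2), ← h]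
    exact Submodule.subset_span ⟨1, K.one_mem, by simp⟩

theorem exists_gen (s : PGV ρ K A B) {a : H} (ha : a ∈ A) (hn : a ∉ 𝐍(K)) :
    ∃ w ∈ LinearMap.range (ρ a - 1), w ≠ 0 ∧
      (∀ T : Module.End (ZMod 2) X, (∀ k ∈ K, Commute T (ρ k)) → T w = 0 → T = 0) ∧
      ∀ u ∈ LinearMap.range (ρ a - 1), ∃ e, InE ρ K A e ∧ u = e w := by
  obtain ⟨w, hw, hw0, hA⟩ := s.exists_fixed ha fun h => hn (h ▸ one_mem _)
  have h1 := s.span_top ha hn hw hw0 hA
  refine ⟨w, hw, hw0, fun T hT h => ?_, ?_⟩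
  · rw [← LinearMap.ker_eq_top, eq_top_iff, ← h1, Submodule.span_le]
    rintro _ ⟨k, hk, rfl⟩
    change T (ρ k w) = 0
    rw [← Module.End.mul_apply, (hT k hk).eq, Module.End.mul_apply, h, map_zero]
  · rintro _ ⟨v, rfl⟩
    have hv : v ∈ Submodule.span (ZMod 2) {u | ∃ k ∈ K, u = ρ k w} := h1 ▸ Submodule.mem_top
    induction hv using Submodule.span_induction with
    | mem x hx =>
      obtain ⟨k, hk, rfl⟩ := hx
      obtain ⟨v, rfl⟩ := hw
      exact ⟨_, ⟨fun _ => s.tau_K ha hn hk, fun _ => s.tau_A ha hn hk⟩, LinearMap.congr_fun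
        (s.al_al ha (s.comm_conj' hn (Amb.conj_mem_conj.2 hk) hk).symm (s.diag ha hn hk)) v⟩
    | zero => exact ⟨0, ⟨fun _ _ => Commute.zero_left _, fun _ _ => Commute.zero_left _⟩, by simp⟩
    | add x y _ _ hx hy =>
      obtain ⟨e, he, h2⟩ := hx
      obtain ⟨f, hf, h3⟩ := hy
      exact ⟨e + f, ⟨fun k hk => (he.1 k hk).add_left (hf.1 k hk),
        fun k hk => (he.2 k hk).add_left (hf.2 k hk)⟩, by rw [map_add, h2, h3]; rfl⟩
    | smul t x _ hx =>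
      obtain ⟨e, he, h2⟩ := hx
      exact ⟨t • e, ⟨fun k hk => (he.1 k hk).smul_left t, fun k hk => (he.2 k hk).smul_left t⟩, by
        rw [map_smul, h2]; rfl⟩

omit [Finite H] in
theorem exists_inv (s : PGV ρ K A B) {e : Module.End (ZMod 2) X} (he : InE ρ K A e) (h0 : e ≠ 0) :
    ∃ n, e ^ n * e = 1 := by
  have h1 := (s.schur he.1 he.2).resolve_left h0
  haveI : Finite (Module.End (ZMod 2) X) := Finite.of_injective _ DFunLike.coe_injective
  obtain ⟨u, rfl⟩ := (Module.End.isUnit_iff e).2 (Finite.injective_iff_bijective.1 h1)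
  refine ⟨orderOf u - 1, ?_⟩
  rw [← pow_succ, Nat.sub_add_cancel (orderOf_pos u), ← Units.val_pow_eq_pow_val, pow_orderOf_eq_one,
    Units.val_one]

theorem zero_of_apply (s : PGV ρ K A B) {a : H} (ha : a ∈ A) (hn : a ∉ 𝐍(K)) {u : X}
    (hu : u ∈ LinearMap.range (ρ a - 1)) (hu0 : u ≠ 0) {T : Module.End (ZMod 2) X}
    (hT : ∀ k ∈ K, Commute T (ρ k)) (h : T u = 0) : T = 0 := by
  obtain ⟨w, -, -, h1, h2⟩ := s.exists_gen ha hn
  obtain ⟨e, he, rfl⟩ := h2 u hu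
  obtain ⟨n, hn⟩ := s.exists_inv he (by rintro rfl; exact hu0 rfl)
  have h3 := h1 (T * e) (fun k hk => (hT k hk).mul_left (he.1 k hk)) h
  rw [← mul_one T, ← hn, ← pow_succ, pow_succ', ← mul_assoc, h3, zero_mul]

theorem range_le (s : PGV ρ K A B) {a : H} (ha : a ∈ A) (hn : a ∉ 𝐍(K)) {u : X}
    (hu : u ∈ LinearMap.range (ρ a - 1)) (hu0 : u ≠ 0) {c : H} (hc : c ∈ A)
    (h : u ∈ LinearMap.range (ρ c - 1)) : LinearMap.range (ρ a - 1) ≤ LinearMap.range (ρ c - 1) := by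
  obtain ⟨w, -, -, -, h2⟩ := s.exists_gen ha hn
  obtain ⟨e, he, rfl⟩ := h2 u hu
  obtain ⟨n, hn⟩ := s.exists_inv he (by rintro rfl; exact hu0 rfl)
  intro u' hu'
  obtain ⟨f, hf, rfl⟩ := h2 u' hu'
  obtain ⟨v, hv⟩ := h
  have h3 : Commute (f * e ^ n) (ρ c - 1) :=
    ((hf.2 c hc).mul_left ((he.2 c hc).pow_left n)).sub_right (Commute.one_right _)
  exact ⟨(f * e ^ n) v, by
    rw [← Module.End.mul_apply, ← h3.eq, Module.End.mul_apply, hv, ← Module.End.mul_apply, mul_assoc,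
      hn, mul_one]⟩

theorem same_of_conj (s : PGV ρ K A B) {a c : H} (ha : a ∈ A) (hc : c ∈ A)
    (h : ∀ k ∈ K, ρ (a * k * a⁻¹) = ρ (c * k * c⁻¹)) : a = c := by
  have h1 := s.cent_triv (A.mul_mem (A.inv_mem hc) ha) fun k hk => by
    have h2 := s.inj (h k hk)
    calc k * (c⁻¹ * a) = c⁻¹ * (c * k * c⁻¹) * a := by group
      _ = _ := by rw [← h2]; group
  exact (inv_mul_eq_one.1 h1).symm

theorem conj_comm (s : PGV ρ K A B) {a c : H} (hn : a ∉ 𝐍(K)) (hcn : c ∉ 𝐍(K)) {k : H} (hk : k ∈ K) :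
    ∀ l ∈ K, Commute (ρ (a * k * a⁻¹) - ρ (c * k * c⁻¹)) (ρ l) := fun _ hl =>
  ((s.comm_conj' hn (Amb.conj_mem_conj.2 hk) hl).map ρ).sub_left
    ((s.comm_conj' hcn (Amb.conj_mem_conj.2 hk) hl).map ρ)

theorem same_of_range (s : PGV ρ K A B) {a c : H} (ha : a ∈ A) (hn : a ∉ 𝐍(K)) (hc : c ∈ A)
    (hcn : c ∉ 𝐍(K)) {u : X} (hu : u ∈ LinearMap.range (ρ a - 1)) (hu0 : u ≠ 0)
    (h : u ∈ LinearMap.range (ρ c - 1)) : a = c := by
  refine s.same_of_conj ha hc fun k hk => sub_eq_zero.1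
    (s.zero_of_apply ha hn hu hu0 (s.conj_comm hn hcn hk) ?_)
  have key : ∀ d ∈ A, d ∉ 𝐍(K) → u ∈ LinearMap.range (ρ d - 1) → ρ (d * k * d⁻¹) u = ρ k⁻¹ u := by
    rintro d hd hdn ⟨v, rfl⟩
    conv_rhs => rw [← s.diag hd hdn hk]
    rw [← Module.End.mul_apply (ρ k⁻¹), ← mul_assoc, ← map_mul, inv_mul_cancel_left]
    rfl
  rw [LinearMap.sub_apply, key a ha hn hu, key c hc hcn h, sub_self]

theorem same_of_ker (s : PGV ρ K A B) {a c : H} (ha : a ∈ A) (hn : a ∉ 𝐍(K)) (hc : c ∈ A)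
    (hcn : c ∉ 𝐍(K)) (h : ∀ v, (ρ c - 1) v = 0 → (ρ a - 1) v = 0) : a = c := by
  let N : Submodule (ZMod 2) X :=
    { carrier := {u | ∀ k ∈ K, (ρ a - 1) (ρ k u) = 0}
      add_mem' := fun hx hy k hk => by rw [map_add, map_add, hx k hk, hy k hk, add_zero]
      zero_mem' := fun _ _ => by rw [map_zero, map_zero]
      smul_mem' := fun t x hx k hk => by rw [map_smul, map_smul, hx k hk, smul_zero] }
  have hN : N = ⊥ := by
    refine (s.irr' ha hn N (fun k hk u hu l hl => ?_) (fun u hu k hk => ?_)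
      fun d hd hdK u hu k hk => ?_).resolve_right fun h1 => hn ?_
    · rw [← Module.End.mul_apply (ρ l), ← map_mul]; exact hu _ (K.mul_mem hl hk)
    · exact (LinearMap.congr_fun (s.al_left ha (s.comm_conj' hn (Amb.conj_mem_conj.2 hk) hk).symm
        (s.diag ha hn hk)) u).trans (hu _ (K.inv_mem hk))
    · have h1 : k * d = d * (d⁻¹ * k * d) := by group
      rw [← Module.End.mul_apply (ρ k), ← map_mul, h1, map_mul, Module.End.mul_apply,
        ← Module.End.mul_apply (ρ a - 1), ((s.comm ha hd).sub_left (Commute.one_left _)).eq,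
        Module.End.mul_apply, hu _ ((mem_normalizer_iff''.1 hdK k).1 hk), map_zero]
    · rw [s.one_of (g := a) (sub_eq_zero.1 (LinearMap.ext fun v => ?_))]
      · exact one_mem _
      · simpa using (h1 ▸ Submodule.mem_top : v ∈ N) 1 K.one_mem
  refine s.same_of_conj ha hc fun k hk => sub_eq_zero.1 (LinearMap.ext fun v => ?_)
  rw [LinearMap.zero_apply, ← Submodule.mem_bot (ZMod 2), ← hN]
  intro l hl
  have key : ∀ d ∈ A, d ∉ 𝐍(K) → ∀ u, (ρ d - 1) (ρ (d * k * d⁻¹) u - ρ k⁻¹ u) = 0 :=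
    fun d hd hdn u => by
      have h1 := s.comm_conj' hdn (Amb.conj_mem_conj.2 hk) hk
      have h2 := s.diag hd hdn hk
      rw [(((s.diag_comm hd h1.symm).map ρ).sub_right (Commute.one_right _)).eq, ← h1.eq] at h2
      rw [map_sub, sub_eq_zero]
      conv_rhs => rw [← h2]
      rw [Module.End.mul_apply, ← Module.End.mul_apply (ρ (_ * k)), ← map_mul, mul_inv_cancel_right]
  rw [← Module.End.mul_apply (ρ l), ← (s.conj_comm hn hcn hk l hl).eq, Module.End.mul_apply,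
    LinearMap.sub_apply (ρ (a * k * a⁻¹)), ← sub_sub_sub_cancel_right _ _ (ρ k⁻¹ (ρ l v)), map_sub, key a ha hn,
    h _ (key c hc hcn _), sub_self]

theorem range_le_beta (s : PGV ρ K A B) {a b : H} (ha : a ∈ A) (hn : a ∉ 𝐍(K)) (hb : b ∈ B)
    (hb1 : b ≠ 1) (hbK : b ∈ 𝐍(K)) : LinearMap.range (ρ a - 1) ≤ LinearMap.range (ρ b - 1) := by
  have h1 : ∃ v, (ρ (a * b) - 1) v = 0 ∧ (ρ a - 1) v ≠ 0 := by
    by_contra h
    push Not at h
    exact hb1 (left_eq_mul.1 (s.same_of_ker ha hn (A.mul_mem ha (s.le hb))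
      (fun h1 => hn ((mul_mem_cancel_right hbK).1 h1)) h))
  obtain ⟨v, hv, hv0⟩ := h1
  have h2 : ρ (a * b) - 1 = (ρ a - 1) + (ρ b - 1) := by
    have := s.mul_left hb ha
    rw [mul_sub, mul_one, sub_eq_iff_eq_add] at this
    rw [map_mul, this]; abel
  rw [h2, LinearMap.add_apply] at hv
  exact s.range_le ha hn ⟨v, rfl⟩ hv0 (s.le hb) ⟨-v, by rw [map_neg, neg_eq_of_add_eq_zero_left hv]⟩

theorem two_norm (s : PGV ρ K A B) : A ≤ 𝐍(K) := fun a ha => by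
  by_contra hn
  haveI := s.charP
  obtain ⟨e, he, he0, he1⟩ : ∃ e, InE ρ K A e ∧ e ≠ 0 ∧ e ≠ 1 := by
    by_contra h
    push Not at h
    refine not_pow_cent s.comp.2 Nat.prime_two Nat.prime_three fun k hk => ?_
    by_cases h0 : ρ k + ρ k⁻¹ = 0
    · have h1 : k = k⁻¹ := s.inj (by rw [← sub_eq_zero, CharTwo.sub_eq_add, h0])
      rw [pow_two]
      nth_rewrite 1 [h1]
      rw [inv_mul_cancel]; exact Or.inl (one_mem _)
    · have h1 := h _ ⟨fun _ => s.tau_K ha hn hk, fun _ => s.tau_A ha hn hk⟩ h0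
      have h2 : ρ k * ρ k⁻¹ = 1 := by rw [← map_mul, mul_inv_cancel, map_one]
      have h3 : ρ k * ρ k = ρ k⁻¹ := by
        have h4 : ρ k * ρ k + 1 = ρ k := by rw [← h2, ← mul_add, h1, mul_one]
        rw [eq_sub_of_add_eq h4, eq_sub_of_add_eq' h1, CharTwo.sub_eq_add, CharTwo.sub_eq_add, add_comm]
      have h4 : k ^ 3 = 1 := by
        rw [pow_succ', pow_two, s.inj (show ρ (k * k) = ρ k⁻¹ by rw [map_mul, h3]), mul_inv_cancel]
      exact Or.inr (h4 ▸ one_mem _)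
  have hw : ∀ c : {c // c ∈ A ∧ c ∉ 𝐍(K)}, ∃ w ∈ LinearMap.range (ρ c - 1), w ≠ 0 := fun c => by
    obtain ⟨w, h1, h2, -⟩ := s.exists_gen c.2.1 c.2.2
    exact ⟨w, h1, h2⟩
  choose w hw hw0 using hw
  have hew : ∀ c : {c // c ∈ A ∧ c ∉ 𝐍(K)}, e (w c) ∈ LinearMap.range (ρ c - 1) := fun c => by
    obtain ⟨v, hv⟩ := hw c
    exact ⟨e v, by rw [← hv, ← Module.End.mul_apply, ← Module.End.mul_apply,
      ((he.2 c c.2.1).sub_right (Commute.one_right _)).eq]⟩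
  have hew0 : ∀ c, e (w c) ≠ 0 := fun c h => he0 (s.zero_of_apply c.2.1 c.2.2 (hw c) (hw0 c) he.1 h)
  have hne : ∀ c, e (w c) ≠ w c := fun c h => he1 (sub_eq_zero.1 (s.zero_of_apply c.2.1 c.2.2 (hw c)
    (hw0 c) (fun k hk => (he.1 k hk).sub_left (Commute.one_left _)) (by simp [h])))
  by_cases hB : ∀ b ∈ B, b ∈ 𝐍(K) → b = 1
  · obtain ⟨b, hb, hb1⟩ := exists_mem_ne_one s.ne
    have hbn : b ∉ 𝐍(K) := fun h => hb1 (hB b hb h)
    have h1 := (s.card_range_le hb).trans (card_le_two (a := b) fun c hc => by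
      by_cases h : c ∈ 𝐍(K)
      · exact Or.inl (hB c hc h)
      · right
        rw [eq_inv_of_mul_eq_one_right (hB _ (B.mul_mem hb hc)
          (s.mul_mem_norm (s.le hb) hbn (s.le hc) h)), s.inv_eq (s.le hb)])
    exact hne ⟨b, s.le hb, hbn⟩ (congrArg Subtype.val (eq_of_card_le_two h1
      (x := ⟨_, hew ⟨b, s.le hb, hbn⟩⟩) (y := ⟨_, hw ⟨b, s.le hb, hbn⟩⟩) (z := 0)
      (fun h => hew0 _ (congrArg Subtype.val h))
      fun h => hw0 _ (congrArg Subtype.val h)))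
  push Not at hB
  obtain ⟨b, hb, hbK, hb1⟩ := hB
  have hle : ∀ c : {c // c ∈ A ∧ c ∉ 𝐍(K)}, _ := fun c => s.range_le_beta c.2.1 c.2.2 hb hb1 hbK
  have hsame : ∀ (c d : {c // c ∈ A ∧ c ∉ 𝐍(K)}) (u : X), u ∈ LinearMap.range (ρ c - 1) → u ≠ 0 →
      u ∈ LinearMap.range (ρ d - 1) → c = d := fun c d u h1 h2 h3 =>
    Subtype.ext (s.same_of_range c.2.1 c.2.2 d.2.1 d.2.2 h1 h2 h3)
  classical
  let g : A → LinearMap.range (ρ b - 1) := fun c => if h : (c : H) ∈ 𝐍(K) then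
    ⟨_, hle ⟨a * c, A.mul_mem ha c.2, fun h1 => hn ((mul_mem_cancel_right h).1 h1)⟩ (hew _)⟩ else
    ⟨_, hle ⟨c, c.2, h⟩ (hw _)⟩
  have hg : Function.Injective g := fun c d h => by
    by_cases h1 : (c : H) ∈ 𝐍(K) <;> by_cases h2 : (d : H) ∈ 𝐍(K) <;>
      simp only [g, h1, h2, dif_pos, dif_neg, not_false_eq_true, Subtype.mk.injEq] at h
    · exact Subtype.ext (mul_left_cancel (Subtype.mk.inj
        (hsame _ _ _ (hew _) (hew0 _) (h ▸ hew _)))).symm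
    · have h3 := hsame _ _ _ (hew _) (hew0 _) (h ▸ hw _)
      rw [h3] at h
      exact absurd h (hne _)
    · have h3 := hsame _ _ _ (hew _) (hew0 _) (h ▸ hw _)
      rw [h3] at h
      exact absurd h.symm (hne _)
    · exact Subtype.ext (Subtype.mk.inj (hsame _ _ _ (hw _) (hw0 _) (h ▸ hw _))).symm
  have hg0 : (0 : LinearMap.range (ρ b - 1)) ∉ Set.range g := by
    rintro ⟨c, hc⟩
    by_cases h1 : (c : H) ∈ 𝐍(K) <;>
      simp only [g, h1, dif_pos, dif_neg, not_false_eq_true] at hc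
    · exact hew0 _ (congrArg Subtype.val hc)
    · exact hw0 _ (congrArg Subtype.val hc)
  haveI := Fintype.ofFinite A
  haveI := Fintype.ofFinite (LinearMap.range (ρ b - 1))
  have h1 := Fintype.card_lt_of_injective_of_notMem g hg hg0
  have h2 := (s.card_range_le hb).trans (card_le_of_le s.le)
  rw [Nat.card_eq_fintype_card, Nat.card_eq_fintype_card] at h2
  omega

end PGV

end two

theorem PGV.le_norm {H X : Type*} [Group H] [AddCommGroup X] {p : ℕ} [Fact p.Prime]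
    [Module (ZMod p) X] {ρ : Representation (ZMod p) H X} {K A B : Subgroup H} [Finite H] [Finite X]
    (s : PGV ρ K A B) : A ≤ 𝐍(K) := by
  by_cases h : p = 2
  · subst h
    exact s.two_norm
  · exact s.odd_norm h

end Cfsg.Agent.Comp2
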