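import Mathlib
import Cfsg.Agent.Comp2.PGV3
import Cfsg.Agent.FGS.Semi
import Cfsg.Agent.Transfer.Replacement
import Cfsg.Agent.LocalEven.CD

/-! Best offenders normalize components. -/

namespace Cfsg.Agent.Comp2

open Cfsg Subgroup Cfsg.Agent.BG
open scoped Pointwise commutatorElement

universe v

variable {H : Type*} [Group H] {p : ℕ} [hp : Fact p.Prime] {K A B : Subgroup H}

section
variable {X : Type v} [AddCommGroup X] [Module (ZMod p) X] {ρ : Representation (ZMod p) H X}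

/-- The fixed space of a subgroup. -/
def fixS (ρ : Representation (ZMod p) H X) (B : Subgroup H) : Submodule (ZMod p) X where
  carrier := {v | ∀ b ∈ B, ρ b v = v}
  add_mem' := fun hx hy b hb => by rw [map_add, hx b hb, hy b hb]
  zero_mem' := fun _ _ => map_zero _
  smul_mem' := fun t x hx b hb => by rw [map_smul, hx b hb]

theorem card_sub_mul [Finite X] {P Q R S : Submodule (ZMod p) X} (hP : P ≤ R) (hQ : Q ≤ R)
    (h : P ⊓ Q ≤ S) : Nat.card P * Nat.card Q ≤ Nat.card R * Nat.card S :=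
  (LocalEven.card_mul_card_le (AddSubgroup.toSubgroup P.toAddSubgroup)
    (AddSubgroup.toSubgroup Q.toAddSubgroup)).trans (Nat.mul_le_mul
      (card_le_of_le (K := AddSubgroup.toSubgroup R.toAddSubgroup) (sup_le hP hQ))
      (card_le_of_le (K := AddSubgroup.toSubgroup S.toAddSubgroup) h))

theorem card_fixS_sub (U : Submodule (ZMod p) X) (hU : ∀ g, U ≤ U.comap (ρ g)) (B : Subgroup H) :
    Nat.card (fixS (ρ.subrepresentation U hU) B) = Nat.card (U ⊓ fixS ρ B : Submodule _ _) :=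
  Nat.card_congr
    { toFun := fun v => ⟨v.1.1, v.1.2, fun b hb => congrArg Subtype.val (v.2 b hb)⟩
      invFun := fun v => ⟨⟨v.1, v.2.1⟩, fun b hb => Subtype.ext (v.2.2 b hb)⟩
      left_inv := fun _ => rfl
      right_inv := fun _ => rfl }

theorem triv_of_perfect (hK : ⁅K, K⁆ = K) (h : ∀ k ∈ K, ∀ l ∈ K, (ρ k - 1) * (ρ l - 1) = 0) :
    ∀ k ∈ K, ρ k = 1 := by
  have h1 : ∀ k ∈ K, ∀ l ∈ K, ρ k * ρ l = ρ k + ρ l - 1 := fun k hk l hl => by
    rw [← sub_eq_zero, ← h k hk l hl]; noncomm_ring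
  have h2 : K ≤ ρ.ker := hK.ge.trans (commutator_le.2 fun k hk l hl => by
    have h3 : k * l * k⁻¹ * l⁻¹ = k * l * (l * k)⁻¹ := by group
    rw [MonoidHom.mem_ker, commutatorElement_def, h3, map_mul, map_mul, h1 k hk l hl, add_comm,
      ← h1 l hl k hk, ← map_mul, ← map_mul, mul_inv_cancel, map_one])
  exact fun k hk => h2 hk

theorem ker_le_cent (hK : IsComponent K) (h : ∃ k ∈ K, ρ k ≠ 1) : ρ.ker ≤ 𝐂(K) := by
  obtain ⟨k, hk, h1⟩ := h
  exact Amb.le_cent_iff_comm_eq_bot'.2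
    ((component_le_or_commutator_eq_bot_of_normal hK ρ.ker).resolve_left fun h => h1 (h hk))

theorem irr_case [Finite H] [Finite X] (irr : ∀ U : Submodule (ZMod p) X,
    (∀ k ∈ K, ∀ u ∈ U, ρ k u ∈ U) → (∀ a ∈ A, ∀ u ∈ U, ρ a u ∈ U) → U = ⊥ ∨ U = ⊤)
    (hK : IsComponent K) (hnt : ∃ k ∈ K, ρ k ≠ 1) (hA : IsElementaryAbelian p A) (hB : B ≤ A)
    (quad : ∀ b ∈ B, ∀ a ∈ A, (ρ b - 1) * (ρ a - 1) = 0) (hBK : ¬ B ≤ 𝐂(K))
    (hc : Nat.card X * Nat.card (B ⊓ 𝐂(K) : Subgroup H) ≤ Nat.card B * Nat.card (fixS ρ B)) :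
    A ≤ 𝐍(K) := by
  have hker := ker_le_cent hK hnt
  let π := QuotientGroup.mk' ρ.ker
  let σ : Representation (ZMod p) (H ⧸ ρ.ker) X := QuotientGroup.lift ρ.ker ρ fun _ h => h
  have hσ : ∀ g, σ (π g) = ρ g := fun _ => rfl
  have hKc : IsComponent (K.map π) := component_map_of_surjective hK π
    (QuotientGroup.mk'_surjective _) fun h => by
      obtain ⟨k, hk, h1⟩ := hnt
      rw [Subgroup.map_eq_bot_iff, QuotientGroup.ker_mk'] at h
      exact h1 (h hk)
  have s : PGV σ (K.map π) (A.map π) (B.map π) := by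
    refine ⟨fun x y h => ?_, fun U h1 h2 => irr U (fun k hk => h1 _ ⟨k, hk, rfl⟩)
      fun k hk => h2 _ ⟨k, hk, rfl⟩, hKc, Rank.elem_map hA π, map_mono hB, ?_, fun h => ?_, ?_⟩
    · obtain ⟨x, rfl⟩ := QuotientGroup.mk_surjective x
      obtain ⟨y, rfl⟩ := QuotientGroup.mk_surjective y
      rw [QuotientGroup.eq, MonoidHom.mem_ker, map_mul, ← show ρ x = ρ y from h, ← map_mul,
        inv_mul_cancel, map_one]
    · rintro _ ⟨b, hb, rfl⟩ _ ⟨a, ha, rfl⟩
      exact quad b hb a ha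
    · rw [Subgroup.map_eq_bot_iff, QuotientGroup.ker_mk'] at h
      exact hBK (h.trans hker)
    · have h1 : Nat.card {v : X // ∀ b ∈ B.map π, σ b v = v} = Nat.card (fixS ρ B) :=
        Nat.card_congr (Equiv.subtypeEquivRight fun v => ⟨fun h b hb => h _ ⟨b, hb, rfl⟩, by
          rintro h _ ⟨b, hb, rfl⟩; exact h b hb⟩)
      have h2 : Nat.card B = Nat.card (B.map π) * Nat.card (B ⊓ ρ.ker : Subgroup H) := by
        rw [← relIndex_ker, QuotientGroup.ker_mk', inf_comm, mul_comm, ← inf_relIndex_right,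
          Core.card_mul_relIndex inf_le_right]
      have h3 : Nat.card (B ⊓ ρ.ker : Subgroup H) ≤ Nat.card (B ⊓ 𝐂(K) : Subgroup H) :=
        card_le_of_le (inf_le_inf_left _ hker)
      rw [h1]
      refine Nat.le_of_mul_le_mul_right ?_ (Nat.card_pos (α := (B ⊓ ρ.ker : Subgroup H)))
      rw [mul_right_comm, ← h2]
      exact (Nat.mul_le_mul_left _ h3).trans hc
  intro a ha
  by_contra hn
  have h1 := s.le_norm ⟨a, ha, rfl⟩
  refine quasisimple_not_le_centralizer hKc.2 fun x hx => ?_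
  obtain ⟨k, hk, hx⟩ := (mem_normalizer_iff''.1 h1 x).1 hx
  rintro _ ⟨l, hl, rfl⟩
  have h2 := commutator_eq_bot_iff_forall.1 (component_commutator_eq_bot_of_ne hK
    (component_conj hK a) fun h => hn (Amb.mem_normalizer_iff_conj.2 h.symm)) l hl _
    (Amb.conj_mem_conj.2 hk)
  have h3 : x = π (a * k * a⁻¹) := by rw [map_mul, map_mul, hx, map_inv]; group
  rw [h3, ← map_mul, h2, map_mul]

end

theorem quad_case [Finite H] (hK : IsComponent K) (htop : K ⊔ A = ⊤) (hA : IsElementaryAbelian p A)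
    (hB : B ≤ A) (hBK : ¬ B ≤ 𝐂(K)) (n : ℕ) : ∀ (X : Type v) [AddCommGroup X] [Module (ZMod p) X]
    [Finite X] (ρ : Representation (ZMod p) H X), Nat.card X = n → (∃ k ∈ K, ρ k ≠ 1) →
    (∀ b ∈ B, ∀ a ∈ A, (ρ b - 1) * (ρ a - 1) = 0) →
    Nat.card X * Nat.card (B ⊓ 𝐂(K) : Subgroup H) ≤ Nat.card B * Nat.card (fixS ρ B) → A ≤ 𝐍(K) := by
  induction n using Nat.strong_induction_on with
  | _ n ih =>
  intro X _ _ _ ρ hn hnt quad hc
  by_cases irr : ∀ U : Submodule (ZMod p) X,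
    (∀ k ∈ K, ∀ u ∈ U, ρ k u ∈ U) → (∀ a ∈ A, ∀ u ∈ U, ρ a u ∈ U) → U = ⊥ ∨ U = ⊤
  · exact irr_case irr hK hnt hA hB quad hBK hc
  push Not at irr
  obtain ⟨U, h1, h2, hU0, hU1⟩ := irr
  have hU : ∀ g, U ≤ U.comap (ρ g) := fun g => by
    have hg : g ∈ K ⊔ A := htop ▸ mem_top g
    rw [sup_eq_closure] at hg
    induction hg using closure_induction'' with
    | mem x hx => exact hx.elim (h1 x) (h2 x)
    | inv_mem x hx => exact hx.elim (fun h => h1 _ (K.inv_mem h)) fun h => h2 _ (A.inv_mem h)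
    | one => intro u hu; simpa using hu
    | mul x y _ _ hx hy => intro u hu; simpa using hx (hy hu)
  haveI : Finite (X ⧸ U) := Finite.of_surjective _ (Submodule.Quotient.mk_surjective U)
  have hcard := Submodule.card_eq_card_quotient_mul_card U
  have hU2 : 1 < Nat.card U := Finite.one_lt_card_iff_nontrivial.2 (Submodule.nontrivial_iff_ne_bot.2 hU0)
  have hQ2 : 1 < Nat.card (X ⧸ U) :=
    Finite.one_lt_card_iff_nontrivial.2 (Submodule.Quotient.nontrivial_iff.2 hU1)
  by_cases h3 : ∃ k ∈ K, ρ.subrepresentation U hU k ≠ 1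
  · refine ih _ (by rw [← hn, hcard]; nlinarith) U (ρ.subrepresentation U hU) rfl h3
      (fun b hb a ha => LinearMap.ext fun u => Subtype.ext (LinearMap.congr_fun (quad b hb a ha) u)) ?_
    have h4 := card_sub_mul (P := U) (Q := fixS ρ B) (R := ⊤) le_top le_top le_rfl
    rw [Nat.card_congr Submodule.topEquiv.toEquiv, ← card_fixS_sub U hU] at h4
    refine Nat.le_of_mul_le_mul_left ?_ (Nat.card_pos (α := X))
    calc _ = Nat.card U * (Nat.card X * Nat.card (B ⊓ 𝐂(K) : Subgroup H)) := by ring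
      _ ≤ Nat.card U * (Nat.card B * Nat.card (fixS ρ B)) := Nat.mul_le_mul_left _ hc
      _ = Nat.card B * (Nat.card U * Nat.card (fixS ρ B)) := by ring
      _ ≤ _ := (Nat.mul_le_mul_left _ h4).trans_eq (by ring)
  push Not at h3
  have h4 : ∃ k ∈ K, ρ.quotient U hU k ≠ 1 := by
    by_contra h
    push Not at h
    obtain ⟨k, hk, h4⟩ := hnt
    refine h4 (triv_of_perfect (component_commutator_self hK) (fun k hk l hl => LinearMap.ext fun v => ?_)
      k hk)
    have h5 : (ρ l - 1) v ∈ U := (Submodule.Quotient.eq U).1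
      (LinearMap.congr_fun (h l hl) (Submodule.Quotient.mk v))
    exact sub_eq_zero.2 (congrArg Subtype.val (LinearMap.congr_fun (h3 k hk) ⟨_, h5⟩))
  refine ih _ (by rw [← hn, hcard]; nlinarith) (X ⧸ U) (ρ.quotient U hU) rfl h4
    (fun b hb a ha => LinearMap.ext fun u => ?_) ?_
  · obtain ⟨u, rfl⟩ := Submodule.Quotient.mk_surjective U u
    exact congrArg Submodule.Quotient.mk (LinearMap.congr_fun (quad b hb a ha) u)
  · let f : fixS ρ B →ₗ[ZMod p] fixS (ρ.quotient U hU) B := U.mkQ.restrict fun v hv b hb =>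
      congrArg Submodule.Quotient.mk (hv b hb)
    have h5 := Submodule.card_eq_card_quotient_mul_card (LinearMap.ker f)
    rw [Nat.card_congr (LinearMap.quotKerEquivRange f).toEquiv] at h5
    have h6 : Nat.card (LinearMap.ker f) ≤ Nat.card U := Nat.card_le_card_of_injective
      (fun v => ⟨v.1.1, (Submodule.Quotient.mk_eq_zero U).1 (congrArg Subtype.val v.2)⟩)
      fun v w h => Subtype.ext (Subtype.ext (by simpa using h))
    have h7 : Nat.card (LinearMap.range f) ≤ Nat.card (fixS (ρ.quotient U hU) B) :=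
      Nat.card_le_card_of_injective _ Subtype.val_injective
    refine Nat.le_of_mul_le_mul_left ?_ (Nat.card_pos (α := U))
    rw [← mul_assoc, ← hcard]
    refine hc.trans ?_
    rw [h5, mul_left_comm (Nat.card U)]
    exact Nat.mul_le_mul_left _ (Nat.mul_le_mul h6 h7)

variable {X : Type v} [AddCommGroup X] [Module (ZMod p) X]

/-- The action on the multiplicative version of the module. -/
def repAut (ρ : Representation (ZMod p) H X) : H →* MulAut (Multiplicative X) where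
  toFun g :=
    { toFun := fun v => Multiplicative.ofAdd (ρ g v.toAdd)
      invFun := fun v => Multiplicative.ofAdd (ρ g⁻¹ v.toAdd)
      left_inv := fun v => by
        simp only [toAdd_ofAdd]
        rw [← Module.End.mul_apply, ← map_mul, inv_mul_cancel, map_one]; rfl
      right_inv := fun v => by
        simp only [toAdd_ofAdd]
        rw [← Module.End.mul_apply, ← map_mul, mul_inv_cancel, map_one]; rfl
      map_mul' := fun v w => by rw [toAdd_mul, map_add, ofAdd_add] }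
  map_one' := by ext v; simp
  map_mul' g h := by ext v; simp

open SemidirectProduct FGS in
theorem card_fix_sd (ρ : Representation (ZMod p) H X) (B : Subgroup H) :
    Nat.card (sdG (repAut ρ) ⊓ 𝐂(B.map inr) : Subgroup _) = Nat.card (fixS ρ B) := by
  refine (Nat.card_congr (Equiv.ofBijective (fun v : fixS ρ B => (⟨inl (Multiplicative.ofAdd v.1),
    ⟨_, rfl⟩, inl_mem_centralizer_iff.2 fun a ha => congrArg Multiplicative.ofAdd (v.2 a ha)⟩ :
      (sdG (repAut ρ) ⊓ 𝐂(B.map inr) : Subgroup _))) ⟨fun v w h => ?_, ?_⟩)).symm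
  · exact Subtype.ext (Multiplicative.ofAdd.injective (inl_injective (Subtype.mk.inj h)))
  · rintro ⟨_, ⟨v, rfl⟩, hv⟩
    exact ⟨⟨v.toAdd, fun a ha => congrArg Multiplicative.toAdd
      (inl_mem_centralizer_iff.1 hv a ha)⟩, rfl⟩

open SemidirectProduct FGS in
/-- Timmesfeld's replacement theorem for modules. -/
theorem timm_mod [Finite H] [Finite X] (ρ : Representation (ZMod p) H X)
    (hA : IsElementaryAbelian p A) (best : ∀ C ≤ A, Nat.card C * Nat.card (fixS ρ C) ≤
      Nat.card A * Nat.card (fixS ρ A)) (hnt : ∃ a ∈ A, ρ a ≠ 1) :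
    ∃ B ≤ A, (∀ b ∈ B, ∀ a ∈ A, (ρ b - 1) * (ρ a - 1) = 0) ∧ (∃ b ∈ B, ρ b ≠ 1) ∧
      ∀ C ≤ B, Nat.card C * Nat.card (fixS ρ C) ≤ Nat.card B * Nat.card (fixS ρ B) := by
  have hV : IsElementaryAbelian p (sdG (repAut ρ)) := by
    refine Rank.elem_of (Amb.le_cent_of_forall ?_) ?_
    · rintro _ ⟨x, rfl⟩ _ ⟨y, rfl⟩
      rw [← map_mul, mul_comm, map_mul]
    · rintro _ ⟨x, rfl⟩
      rw [← map_pow, ← ofAdd_toAdd x, ← ofAdd_nsmul, ← Nat.cast_smul_eq_nsmul (ZMod p),
        ZMod.natCast_self, zero_smul, ofAdd_zero, map_one]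
  have hm : ∀ C' : Subgroup (Multiplicative X ⋊[repAut ρ] H), C' ≤ A.map inr →
      ∃ C ≤ A, C.map inr = C' := fun C' h =>
    ⟨C'.comap inr, (Subgroup.comap_mono h).trans (comap_map_eq_self_of_injective inr_injective A).le,
      map_comap_eq_self (h.trans (map_le_range _ _))⟩
  have hcard : ∀ C : Subgroup H, Nat.card (C.map (inr : H →* Multiplicative X ⋊[repAut ρ] H)) =
      Nat.card C := fun C => Comp2.card_map_of_injective _ inr_injective C
  have hA' := Rank.elem_map hA (inr : H →* Multiplicative X ⋊[repAut ρ] H)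
  have hne : ∀ C : Subgroup H, ⁅sdG (repAut ρ), C.map inr⁆ ≠ ⊥ ↔ ∃ c ∈ C, ρ c ≠ 1 := fun C => by
    rw [Ne, ← Amb.le_cent_iff_comm_eq_bot, ← not_iff_not, not_not]
    push Not
    refine ⟨fun h c hc => LinearMap.ext fun v => congrArg Multiplicative.toAdd
      (inl_mem_centralizer_iff.1 (h ⟨Multiplicative.ofAdd v, rfl⟩) c hc), ?_⟩
    rintro h _ ⟨v, rfl⟩
    exact inl_mem_centralizer_iff.2 fun c hc =>
      congrArg Multiplicative.ofAdd (LinearMap.congr_fun (h c hc) v.toAdd)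
  obtain ⟨h1, -, -, h2⟩ := Transfer.timmesfeld_replacement hV (A := A.map inr)
    (by rw [normalizer_eq_top]; exact le_top) ⟨fun C' hC' => by
      obtain ⟨C, hC, rfl⟩ := hm C' hC'
      rw [hcard, hcard, card_fix_sd, card_fix_sd]
      exact best C hC, by
      rw [Amb.le_cent_iff_comm_eq_bot.1 (Amb.comm_le_cent hA'.1)]; exact bot_le,
      fun a ha => by rw [hA'.2 a ha]; exact one_mem _⟩ le_rfl
  obtain ⟨B, hB, hB'⟩ := hm _ (inf_le_left (b := 𝐂(⁅sdG (repAut ρ), A.map inr⁆)))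
  rw [← hB'] at h1 h2
  refine ⟨B, hB, fun b hb a ha => LinearMap.ext fun v => ?_, (hne B).1 (h2 ((hne A).2 hnt)),
    fun C hC => ?_⟩
  · have h3 : inr b ∈ 𝐂(⁅sdG (repAut ρ), A.map inr⁆) := (hB'.le ⟨b, hb, rfl⟩).2
    have h4 : (inl (Multiplicative.ofAdd (ρ a v - v)) : Multiplicative X ⋊[repAut ρ] H) ∈
        ⁅sdG (repAut ρ), A.map inr⁆ := by
      rw [commutator_comm]
      convert commutator_mem_commutator (mem_map_of_mem inr ha)
        (show inl (Multiplicative.ofAdd v) ∈ sdG (repAut ρ) from ⟨_, rfl⟩) using 1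
      rw [commutatorElement_def, sd_conj, ← map_inv, ← map_mul, sub_eq_add_neg]
      rfl
    have h5 := h3 _ h4
    rw [eq_comm, ← mul_inv_eq_iff_eq_mul, sd_conj] at h5
    exact sub_eq_zero.2 (congrArg Multiplicative.toAdd (inl_injective h5))
  · have h3 := h1.1 _ (map_mono (f := inr) hC)
    rwa [hcard, hcard, card_fix_sd, card_fix_sd] at h3

theorem best_case [Finite H] [Finite X] (ρ : Representation (ZMod p) H X) (hK : IsComponent K)
    (htop : K ⊔ A = ⊤) (hA : IsElementaryAbelian p A) (hnt : ∃ k ∈ K, ρ k ≠ 1)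
    (best : ∀ C ≤ A, Nat.card C * Nat.card (fixS ρ C) ≤ Nat.card A * Nat.card (fixS ρ A)) :
    A ≤ 𝐍(K) := by
  haveI : Finite (Submodule (ZMod p) X) := Finite.of_injective _ SetLike.coe_injective
  obtain ⟨W, ⟨hW, hWK⟩, hmin⟩ := WellFounded.has_min (wellFounded_lt (α := Submodule (ZMod p) X))
    {W | (∀ g, W ≤ W.comap (ρ g)) ∧ ¬ W ≤ fixS ρ K} ⟨⊤, fun _ _ _ => trivial, fun h => by
      obtain ⟨k, hk, h1⟩ := hnt
      exact h1 (LinearMap.ext fun v => h Submodule.mem_top k hk)⟩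
  have hmin' : ∀ U ≤ W, (∀ g, U ≤ U.comap (ρ g)) → U = W ∨ U ≤ fixS ρ K := fun U h1 h2 => by
    by_contra h
    push Not at h
    exact hmin U ⟨h2, h.2⟩ (lt_of_le_of_ne h1 h.1)
  have hnt' : ∃ k ∈ K, ρ.subrepresentation W hW k ≠ 1 := by
    by_contra h
    push Not at h
    exact hWK fun w hw k hk => congrArg Subtype.val (LinearMap.congr_fun (h k hk) ⟨w, hw⟩)
  have hD : ∀ c ∈ A, c ∈ 𝐂(K) → ρ.subrepresentation W hW c = 1 := fun c hc hcK => by
    have h1 : ∀ g, Commute (ρ c - 1) (ρ g) := fun g => by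
      have h2 : c ∈ 𝐂(K ⊔ A) := Amb.cent_sup K A ▸ ⟨hcK, Amb.comm_le_cent hA.1 hc⟩
      exact ((show Commute c g from (h2 g (htop ▸ mem_top g)).symm).map ρ).sub_left
        (Commute.one_left _)
    have h2 : W.map (ρ c - 1) ≤ W := by
      rintro _ ⟨w, hw, rfl⟩
      exact W.sub_mem (hW c hw) hw
    have h3 : W.map (ρ c - 1) ≤ fixS ρ K := by
      refine (hmin' _ h2 ?_).resolve_left fun h => hWK ?_
      · rintro g _ ⟨w, hw, rfl⟩
        exact ⟨ρ g w, hW g hw, LinearMap.congr_fun (h1 g).eq w⟩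
      · haveI : Nontrivial X := by
          by_contra h3
          rw [not_nontrivial_iff_subsingleton] at h3
          exact hWK fun _ _ _ _ => Subsingleton.elim _ _
        haveI : CharP (Module.End (ZMod p) X) p :=
          charP_of_injective_algebraMap (algebraMap (ZMod p) _).injective p
        have h4 : ∀ n : ℕ, W.map ((ρ c - 1) ^ n) = W := fun n => by
          induction n with
          | zero => exact Submodule.map_id W
          | succ n ih => rw [pow_succ, Module.End.mul_eq_comp, Submodule.map_comp, h, ih]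
        rw [← h4 p, sub_pow_char_of_commute _ (Commute.one_right _), ← map_pow, hA.2 c hc, map_one,
          one_pow, sub_self, Submodule.map_zero]
        exact bot_le
    rcases hmin' (W ⊓ LinearMap.ker (ρ c - 1)) inf_le_left (fun g w hw => ⟨hW g hw.1, by
      change (ρ c - 1) (ρ g w) = 0
      rw [← Module.End.mul_apply, (h1 g).eq, Module.End.mul_apply, hw.2, map_zero]⟩) with h | h
    · exact LinearMap.ext fun w => Subtype.ext (sub_eq_zero.1 (h.ge w.2).2)
    · obtain ⟨k, hk, h4⟩ := hnt'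
      refine absurd (triv_of_perfect (component_commutator_self hK) (fun k hk l hl =>
        LinearMap.ext fun w => Subtype.ext (sub_eq_zero.2 (h ⟨W.sub_mem (hW l w.2) w.2, ?_⟩ k hk)))
        k hk) h4
      change (ρ c - 1) ((ρ l - 1) w) = 0
      rw [← Module.End.mul_apply, ((h1 l).sub_right (Commute.one_right _)).eq, Module.End.mul_apply]
      exact sub_eq_zero.2 (h3 ⟨w, w.2, rfl⟩ l hl)
  by_cases hAW : ∃ a ∈ A, ρ.subrepresentation W hW a ≠ 1
  swap
  · push Not at hAW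
    exact fun a ha => Amb.cent_le_norm K (ker_le_cent hK hnt' (hAW a ha))
  obtain ⟨B, hB, h1, ⟨b, hb, h2⟩, h3⟩ := timm_mod (ρ.subrepresentation W hW) hA (fun C hC => by
    rw [card_fixS_sub, card_fixS_sub]
    have h4 := card_sub_mul (P := W ⊓ fixS ρ C) (Q := fixS ρ A) (R := fixS ρ C) (S := W ⊓ fixS ρ A)
      inf_le_right (fun v hv b hb => hv b (hC hb)) (inf_le_inf_right _ inf_le_left)
    refine Nat.le_of_mul_le_mul_right ?_ (Nat.card_pos (α := fixS ρ A))
    calc _ = Nat.card C * (Nat.card (W ⊓ fixS ρ C : Submodule _ _) * Nat.card (fixS ρ A)) := by ring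
      _ ≤ Nat.card C * Nat.card (fixS ρ C) * Nat.card (W ⊓ fixS ρ A : Submodule _ _) := by
        rw [mul_assoc]; exact Nat.mul_le_mul_left _ h4
      _ ≤ _ := by
        rw [mul_right_comm (Nat.card A)]; exact Nat.mul_le_mul_right _ (best C hC)) hAW
  refine quad_case hK htop hA hB (fun h => h2 (hD b (hB hb) (h hb))) _ W _ rfl hnt' h1 ?_
  have h4 := h3 (B ⊓ 𝐂(K)) inf_le_left
  have h5 : fixS (ρ.subrepresentation W hW) (B ⊓ 𝐂(K)) = ⊤ := eq_top_iff.2 fun w _ c hc => by
    rw [hD c (hB hc.1) hc.2]; rfl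
  rwa [h5, Nat.card_congr Submodule.topEquiv.toEquiv, mul_comm] at h4

/-- The `P(G,V)`-theorem. -/
theorem pgv [Finite H] [Finite X] (ρ : Representation (ZMod p) H X) (hK : IsComponent K)
    (hA : IsElementaryAbelian p A) (hnt : ∃ k ∈ K, ρ k ≠ 1)
    (best : ∀ C ≤ A, Nat.card C * Nat.card (fixS ρ C) ≤ Nat.card A * Nat.card (fixS ρ A)) :
    A ≤ 𝐍(K) := by
  have hf : ∀ C : Subgroup ↥(K ⊔ A), fixS (ρ.comp (K ⊔ A).subtype) C = fixS ρ (C.map (K ⊔ A).subtype) :=
    fun C => Submodule.ext fun v => ⟨by rintro h _ ⟨c, hc, rfl⟩; exact h c hc,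
      fun h c hc => h _ ⟨c, hc, rfl⟩⟩
  have h1 := best_case (ρ.comp (K ⊔ A).subtype) (component_subgroupOf hK le_sup_left)
    (A := A.subgroupOf (K ⊔ A)) (by
      rw [← subgroupOf_sup le_sup_left le_sup_right, subgroupOf_self])
    (Rank.elem_subgroupOf _ hA) (by
      obtain ⟨k, hk, h⟩ := hnt
      exact ⟨⟨k, mem_sup_left hk⟩, hk, h⟩) fun C hC => by
      rw [hf, hf, map_subgroupOf_eq_of_le le_sup_right, card_subgroupOf le_sup_right,
        ← card_map_of_injective _ (K ⊔ A).subtype_injective C]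
      exact best _ (map_le_iff_le_comap.2 hC)
  intro a ha
  have h2 := h1 (show (⟨a, mem_sup_right ha⟩ : ↥(K ⊔ A)) ∈ A.subgroupOf (K ⊔ A) from ha)
  exact Amb.mem_normalizer_of_conj_le fun x hx => by
    obtain ⟨k, hk, rfl⟩ := Amb.mem_conj'.1 hx
    exact (mem_normalizer_iff.1 h2 ⟨k, mem_sup_left hk⟩).1 hk

end Cfsg.Agent.Comp2
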